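import Groth.Agent.Et18.Fppf.ProperPush

/-!
# Integral direct images and the inverse image on the big fppf site
-/

set_option autoImplicit false
set_option backward.isDefEq.respectTransparency.types false
set_option backward.isDefEq.respectTransparency false

universe u

open CategoryTheory CategoryTheory.Limits AlgebraicGeometry Opposite
open Groth.Agent.Et18 Groth.Agent.Et18.H0Lift Groth.Agent.Et18.Fppf

namespace Groth.Agent.Desc19b.IntTop

variable {X Y : Scheme.{u}} {f : X ⟶ Y} [EtFppf.ACont X] [EtFppf.ACont Y] {F : EtCoh.Ab X}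

theorem eq_zero_of_pushComp0 [IsIntegralHom f] {T : Over Y} (σ : GSect ((EtCoh.push f).obj F) T)
    (h : pushComp0 T σ = 0) : σ = 0 := by
  choose R q U m t he hy hr using exists_rep σ
  refine ext_of_etale (sectSheaf _) (fun y : ULift.{u + 1} T.left => R y.down) (fun y => q y.down)
    (fun y => he y.down) (fun y => ⟨⟨y⟩, hy y⟩) σ 0 fun y => ?_
  change res (q y.down) σ = res (q y.down) 0
  rw [hr, res_zero]
  have h1 : valG (F := F) ((EtCoh.bc f).obj (U y.down)) (pbMap (U y.down) (m y.down)) (t y.down) = 0 := by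
    rw [← pushComp0_valG, ← hr, pushComp0_res, h, res_zero]
  obtain ⟨y⟩ := y
  let W := (EtCoh.bc f).obj (U y)
  let φ : W.left ⟶ (U y).left := EtShriek.prV f (U y)
  have : UniversallyClosed φ := inferInstanceAs (UniversallyClosed (pullback.fst (U y).hom f))
  let D := EtShriek.sectSupp F W (t y)
  have hO : IsOpen ((φ '' D)ᶜ) := (φ.isClosedMap _ (isClosed_sectSupp _ _ _)).isOpen_compl
  let O : (U y).left.Opens := ⟨_, hO⟩
  have hm : Set.range (m y).left ⊆ Set.range O.ι := by
    rw [Scheme.Opens.range_ι]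
    rintro _ ⟨r, rfl⟩ ⟨z, hz, hzr⟩
    obtain ⟨c, hc₁, hc₂⟩ := Scheme.Pullback.exists_preimage_pullback (f := (m y).left) (g := φ) r z hzr.symm
    obtain ⟨l, hl⟩ : ∃ l : pullback (m y).left φ ⟶ pullback (R y).hom f,
        l ≫ (pbMap (U y) (m y)).left = pullback.snd (m y).left φ := by
      refine ⟨pullback.lift (pullback.fst _ _) (pullback.snd _ _ ≫ W.hom) ?_, ?_⟩
      · rw [← Over.w (m y), ← Category.assoc, pullback.condition, Category.assoc, Category.assoc]
        exact congrArg (pullback.snd (m y).left φ ≫ ·) (pullback.condition (f := (U y).hom) (g := f))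
      · refine pullback.hom_ext ?_ ?_
        · refine (Category.assoc _ _ _).trans ((congrArg (_ ≫ ·) (pullback.lift_fst _ _ _)).trans ?_)
          rw [← Category.assoc, pullback.lift_fst]
          exact pullback.condition
        · refine (Category.assoc _ _ _).trans ((congrArg (_ ≫ ·) (pullback.lift_snd _ _ _)).trans ?_)
          exact pullback.lift_snd _ _ _
    have := not_mem_supp_of_valG_eq_zero _ _ _ h1 (l c)
    have e : (pbMap (U y) (m y)).left (l c) = z :=
      (congrArg (fun k : pullback (m y).left φ ⟶ W.left => k c) hl).trans hc₂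
    exact this (e.symm ▸ hz)
  have : Etale (U y).hom := (U y).prop
  let U₀ : Y.Etale := Scheme.Etale.mk (O.ι ≫ (U y).hom)
  let a : U₀ ⟶ U y := MorphismProperty.Over.homMk O.ι rfl
  let m₀ : R y ⟶ (EtFppf.a Y).obj U₀ := Over.homMk (IsOpenImmersion.lift O.ι (m y).left hm)
    ((Category.assoc _ _ _).symm.trans ((congrArg (· ≫ (U y).hom) (IsOpenImmersion.lift_fac _ _ _)).trans
      (Over.w (m y))))
  have ht : ((EtCoh.push f).obj F).obj.map a.op (t y) = 0 := by
    refine eq_zero_of_sectSupp_eq_empty F ((EtCoh.bc f).obj U₀) _ (Set.eq_empty_iff_forall_notMem.2 fun b hb => ?_)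
    have hb' := (mem_sectSupp_map F ((EtCoh.bc f).map a) (t y) b).1 hb
    refine (EtShriek.prV f U₀ b).2 ⟨_, hb', ?_⟩
    exact congrArg (fun k => k b) (EtCoh.isPullback_bc_map f a).w
  rw [show m y = m₀ ≫ (EtFppf.a Y).map a from
    Over.OverMorphism.ext (IsOpenImmersion.lift_fac _ _ _).symm, ← valG_map, ht]
  exact (congrArg (res m₀) (map_zero _)).trans (res_zero m₀)

theorem pushComp0_injective [IsIntegralHom f] (T : Over Y) :
    Function.Injective (pushComp0 (F := F) (f := f) T) := fun σ τ h => by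
  have hadd := descFun_add (pushUnit f F) (σ - τ) τ
  rw [sub_add_cancel] at hadd
  refine sub_eq_zero.1 (eq_zero_of_pushComp0 (σ - τ) ?_)
  exact left_eq_add.1 ((h.symm.trans hadd).trans (add_comm _ _))

theorem exists_local_preimage [IsIntegralHom f] {T : Over Y} (τ : GSect F ((Over.pullback f).obj T)) (y : T.left) :
    ∃ (R : Over Y) (q : R ⟶ T) (σ : GSect ((EtCoh.push f).obj F) R),
      Etale q.left ∧ y ∈ Set.range q.left ∧ pushComp0 R σ = res ((Over.pullback f).map q) τ := by
  obtain ⟨η, hη⟩ : ∃ η, algPoint T.left y ≫ T.hom = η := ⟨_, rfl⟩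
  let w₀ := algPoint T.left y
  let sq := IsPullback.of_hasPullback f η
  let Fb : Over X := Over.mk (pullback.fst f η)
  let ι₀ : Fb ⟶ (Over.pullback f).obj T := Over.homMk
    (pullback.lift (pullback.snd f η ≫ w₀) (pullback.fst f η) (by
      rw [Category.assoc, hη]; exact pullback.condition.symm))
    (pullback.lift_snd _ _ _)
  obtain ⟨e, he⟩ := (bijective_toFibreSec F sq).2 (res ι₀ τ)
  obtain ⟨U, v, t, rfl⟩ :=
    (Scheme.pointSmallEtale η).toPresheafFiber_jointly_surjective (P := ((EtCoh.push f).obj F).obj) e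
  have : Etale U.hom := U.prop
  let T₁ : Over Y := Over.mk (pullback.fst T.hom U.hom ≫ T.hom)
  let q₁ : T₁ ⟶ T := Over.homMk (pullback.fst T.hom U.hom)
  let m₁ : T₁ ⟶ (EtFppf.a Y).obj U := Over.homMk (pullback.snd T.hom U.hom) pullback.condition.symm
  obtain ⟨w₁, hw₁, hw₁'⟩ : ∃ w₁ : _ ⟶ pullback T.hom U.hom,
      w₁ ≫ pullback.fst T.hom U.hom = w₀ ∧ w₁ ≫ pullback.snd T.hom U.hom = v.left :=
    ⟨pullback.lift w₀ v.left (hη.trans (Over.w v).symm), pullback.lift_fst _ _ _, pullback.lift_snd _ _ _⟩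
  let ι₁ : Fb ⟶ (Over.pullback f).obj T₁ := Over.homMk
    (pullback.lift (pullback.snd f η ≫ w₁) (pullback.fst f η) (by
      change (pullback.snd f η ≫ w₁) ≫ pullback.fst T.hom U.hom ≫ T.hom = _
      rw [Category.assoc, reassoc_of% hw₁, hη]; exact pullback.condition.symm))
    (pullback.lift_snd _ _ _)
  have hι : ι₁ ≫ (Over.pullback f).map q₁ = ι₀ := by
    refine Over.OverMorphism.ext (pullback.hom_ext ?_ ?_)
    · refine (Category.assoc _ _ _).trans ((congrArg (_ ≫ ·) (pullback.lift_fst _ _ _)).trans ?_)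
      refine (Category.assoc _ _ _).symm.trans ((congrArg (· ≫ q₁.left) (pullback.lift_fst _ _ _)).trans ?_)
      exact (Category.assoc _ _ _).trans ((congrArg (_ ≫ ·) hw₁).trans (pullback.lift_fst _ _ _).symm)
    · refine (Category.assoc _ _ _).trans ((congrArg (_ ≫ ·) (pullback.lift_snd _ _ _)).trans ?_)
      exact (pullback.lift_snd _ _ _).trans (pullback.lift_snd _ _ _).symm
  let W := (EtCoh.bc f).obj U
  let δ := valG (F := F) W (pbMap U m₁) t - res ((Over.pullback f).map q₁) τ
  have hδ : res ι₁ δ = 0 := by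
    rw [res_sub, res_valG, ← res_comp, hι, ← he, sub_eq_zero]
    refine Eq.trans ?_ (toFibreSec_gm F sq U v t).symm
    refine ext_germs fun Ω _ _ η' ξ e' h' => ?_
    obtain rfl := h'.unique (hasGerm_valG W (ι₁ ≫ pbMap U m₁) t ξ)
    have h2 := hasGerm_pullAt W (fibLift sq U v) (fibLift_hom sq U v) t ξ
    refine Eq.mpr (congrArg (HasGerm _ _) (congrArg (fun k => gm F η' W k t) (Over.OverMorphism.ext ?_))) h2
    refine congrArg (ξ.1 ≫ ·) (pullback.hom_ext ?_ ?_)
    · refine (Category.assoc _ _ _).trans ((congrArg (_ ≫ ·) (pullback.lift_fst _ _ _)).trans ?_)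
      refine (Category.assoc _ _ _).symm.trans ((congrArg (· ≫ m₁.left) (pullback.lift_fst _ _ _)).trans ?_)
      exact (Category.assoc _ _ _).trans ((congrArg (_ ≫ ·) hw₁').trans (fibLift_fst sq U v).symm)
    · refine (Category.assoc _ _ _).trans ((congrArg (_ ≫ ·) (pullback.lift_snd _ _ _)).trans ?_)
      exact (pullback.lift_snd _ _ _).trans (fibLift_hom sq U v).symm
  let π : ((Over.pullback f).obj T₁).left ⟶ T₁.left := pullback.fst T₁.hom f
  have : UniversallyClosed π := inferInstanceAs (UniversallyClosed (pullback.fst T₁.hom f))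
  let D := EtShriek.sectSupp ((EtCoh.pull ((Over.pullback f).obj T₁).hom).obj F) (EtCoh.top _) δ
  have hO : IsOpen ((π '' D)ᶜ) := (π.isClosedMap _ (isClosed_sectSupp _ _ _)).isOpen_compl
  let O : T₁.left.Opens := ⟨_, hO⟩
  let R : Over Y := Over.mk (O.ι ≫ T₁.hom)
  let j : R ⟶ T₁ := Over.homMk O.ι
  have hy₁ : w₁ default ∈ O := by
    rintro ⟨z, hz, hzw⟩
    have hpb : IsPullback ι₁.left (pullback.snd f η) π w₁ := by
      refine IsPullback.of_right ?_ (pullback.lift_fst _ _ _) (IsPullback.of_hasPullback T₁.hom f).flip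
      rw [show w₁ ≫ T₁.hom = η by
        change w₁ ≫ pullback.fst T.hom U.hom ≫ T.hom = η
        rw [reassoc_of% hw₁, hη]]
      rw [show ι₁.left ≫ pullback.snd T₁.hom f = pullback.fst f η from pullback.lift_snd _ _ _]
      exact sq
    obtain ⟨c, hc⟩ : z ∈ Set.range ι₁.left := by
      obtain ⟨c, hc, -⟩ := Scheme.Pullback.exists_preimage_pullback (f := π) (g := w₁) z default hzw
      exact ⟨hpb.isoPullback.inv c, (congrArg (fun k => k c) hpb.isoPullback_inv_fst).trans hc⟩
    exact not_mem_supp_of_res_eq_zero ι₁ δ hδ c (hc ▸ hz)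
  refine ⟨R, j ≫ q₁, valG U (j ≫ m₁) t, inferInstanceAs (Etale (O.ι ≫ pullback.fst T.hom U.hom)),
    ⟨⟨w₁ default, hy₁⟩, ?_⟩, ?_⟩
  · change (w₁ ≫ pullback.fst T.hom U.hom) default = y
    rw [hw₁]; exact algPoint_default T.left y
  · rw [pushComp0_valG, Functor.map_comp, res_comp]
    have e₁ : pbMap (f := f) U (j ≫ m₁) = (Over.pullback f).map j ≫ pbMap U m₁ := Functor.map_comp _ _ _
    rw [e₁, ← res_valG, ← sub_eq_zero, ← res_sub]
    refine res_eq_zero_of_supp _ δ fun z hz => ?_
    have hz' : π (((Over.pullback f).map j).left z) = O.ι (pullback.fst R.hom f z) :=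
      congrArg (fun k : ((Over.pullback f).obj R).left ⟶ T₁.left => k z) (pullback.lift_fst _ _ _)
    exact (pullback.fst R.hom f z).2 ⟨_, hz, hz'⟩

theorem pushComp0_bijective [IsIntegralHom f] (T : Over Y) :
    Function.Bijective (pushComp0 (F := F) (f := f) T) := by
  refine ⟨pushComp0_injective T, fun τ => ?_⟩
  choose R q s he hy hs using exists_local_preimage τ
  obtain ⟨σ, hσ⟩ := glue_of_etale (sectSheaf ((EtCoh.push f).obj F)) (fun y : ULift.{u + 1} T.left => R y.down)
    (fun y => q y.down) (fun y => he y.down) (fun y => ⟨⟨y⟩, hy y⟩) (fun y => s y.down) fun k l P gk gl h => by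
      change res gk (s k.down) = res gl (s l.down)
      refine pushComp0_injective P ?_
      rw [pushComp0_res, pushComp0_res, hs, hs, ← res_comp, ← res_comp, ← Functor.map_comp,
        ← Functor.map_comp, h]
  refine ⟨σ, ext_of_etale ((EtFppf.pushBig f).obj (sectSheaf F)) (fun y : ULift.{u + 1} T.left => R y.down)
    (fun y => q y.down) (fun y => he y.down) (fun y => ⟨⟨y⟩, hy y⟩) _ _ fun y => ?_⟩
  change res ((Over.pullback f).map (q y.down)) (pushComp0 T σ) = res ((Over.pullback f).map (q y.down)) τ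
  rw [← pushComp0_res, show res (q y.down) σ = s y.down from hσ y, hs]

theorem isIso_descHom_pushUnit [IsIntegralHom f] : IsIso (descHom (pushUnit f F)) := by
  have : ∀ T, IsIso ((descHom (pushUnit f F)).hom.app T) := fun T =>
    (ConcreteCategory.isIso_iff_bijective _).2 (pushComp0_bijective T.unop)
  have : IsIso ((sheafToPresheaf _ _).map (descHom (pushUnit f F))) :=
    NatIso.isIso_of_isIso_app (descHom (pushUnit f F)).hom
  exact isIso_of_reflects_iso _ (sheafToPresheaf _ _)

end Groth.Agent.Desc19b.IntTop
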