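import Groth.Agent.Desc19b.IntTop.Topology
import Groth.Agent.Desc19b.IntTop.Push
import Groth.Agent.Desc19b.SubmTop.Big
import Groth.Agent.Desc19b.FppfEt.EssImage
import Groth.Agent.Desc19b.SiteRes.Comp

/-!
# Étale sheaves on the big site of the étale-integral topology
-/

set_option autoImplicit false
set_option backward.isDefEq.respectTransparency.types false
set_option backward.isDefEq.respectTransparency false
set_option linter.style.haveILetI false
set_option linter.all false
set_option synthInstance.maxHeartbeats 400000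

universe u

open CategoryTheory CategoryTheory.Limits AlgebraicGeometry Opposite

namespace Groth.Agent.Desc19b.IntTop

/-- Abelian sheaves on the big site. -/
abbrev AbI (X : Scheme.{u}) : Type (u + 2) := BigSite.Ab precoverage X

/-- The topology of the big site. -/
abbrev J (X : Scheme.{u}) : GrothendieckTopology (Over X) := QuotSh.J precoverage X

theorem et_le (X : Scheme.{u}) : QuotSh.J Scheme.etalePrecoverage X ≤ J X := BigSite.J_mono etale_le X

instance (X : Scheme.{u}) : BigSite.AEtCont precoverage X := BigSite.aEtCont_of_le etale_le X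

/-- Inverse image from the small étale site. -/
noncomputable abbrev aPull (X : Scheme.{u}) : EtCoh.Ab X ⥤ AbI X := BigSite.piEtPull precoverage X

/-- Restriction to the small étale site. -/
noncomputable abbrev aPush (X : Scheme.{u}) : AbI X ⥤ EtCoh.Ab X := BigSite.resEt precoverage X

/-- The adjunction. -/
noncomputable abbrev aAdj (X : Scheme.{u}) : aPull X ⊣ aPush X := BigSite.piEtAdj precoverage X

/-- Direct image. -/
noncomputable abbrev pushI {X Y : Scheme.{u}} (f : X ⟶ Y) : AbI X ⥤ AbI Y :=
  BigSite.pushBig precoverage f AddCommGrpCat.{u + 1}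

/-- Base change. -/
noncomputable abbrev pullI {X Y : Scheme.{u}} (f : X ⟶ Y) : AbI Y ⥤ AbI X :=
  BigSite.pullBig precoverage f AddCommGrpCat.{u + 1}

variable {X Y S T : Scheme.{u}}

/-- The sheaf of sections of the inverse images. -/
noncomputable abbrev sectSh (F : EtCoh.Ab X) : AbI X := SubmTop.sectSheafK (J X) (over_le_subm X) F

theorem exists_pullIso (F : EtCoh.Ab X) :
    ∃ e : (aPull X).obj F ≅ sectSh F,
      (aAdj X).unit.app F ≫ (aPush X).map e.hom =
        (⟨(SiteRes.SectEt.sectUnit F).hom⟩ : F ⟶ (aPush X).obj (sectSh F)) := by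
  let K := J X
  have het := et_le X
  let adj := (EtFppf.a X).sheafAdjunctionContinuous AddCommGrpCat.{u + 1} X.smallEtaleTopology K
  let res := (EtFppf.a X).sheafPushforwardContinuous AddCommGrpCat.{u + 1} X.smallEtaleTopology K
  let P := ((EtFppf.a X).sheafPullback AddCommGrpCat.{u + 1} X.smallEtaleTopology K).obj F
  let asEt : Sheaf K AddCommGrpCat.{u + 1} → BigSite.Ab Scheme.etalePrecoverage X := fun H =>
    ⟨H.obj, fun E => Presieve.isSheaf_of_le _ het (H.property E)⟩
  let u₀ : F ⟶ res.obj (sectSh F) := ⟨(SiteRes.SectEt.sectUnit F).hom⟩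
  let φ : F ⟶ (BigSite.resEt Scheme.etalePrecoverage X).obj (asEt P) := ⟨(adj.unit.app F).hom⟩
  let θ : P ⟶ sectSh F := (adj.homEquiv _ _).symm u₀
  let ψ : sectSh F ⟶ P := ⟨(SiteRes.SectEt.descHom φ).hom⟩
  have hψ : u₀ ≫ res.map ψ = adj.unit.app F := by
    have h := SiteRes.SectEt.sectUnit_descHom φ
    exact Sheaf.hom_ext (congrArg (fun k => k.hom) h)
  refine ⟨⟨θ, ψ, ?_, ?_⟩, ((adj.homEquiv_unit _ _ _).symm.trans ((adj.homEquiv _ _).apply_symm_apply u₀))⟩
  · apply (adj.homEquiv _ _).injective
    rw [Adjunction.homEquiv_naturality_right, Equiv.apply_symm_apply, hψ, Adjunction.homEquiv_id]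
  · have hu : u₀ ≫ res.map (ψ ≫ θ) = u₀ := by
      rw [Functor.map_comp, ← Category.assoc, hψ, ← Adjunction.homEquiv_unit, Equiv.apply_symm_apply]
    refine Sheaf.hom_ext (NatTrans.ext (funext fun T => ?_))
    ext σ
    choose R q U m t he hy hr using SiteRes.SectEt.exists_rep (F := F) (T := T.unop) σ
    refine SiteRes.SectEt.ext_of_etale (SiteRes.SectEt.sectSheafEt F) (fun y : ULift.{u + 1} T.unop.left => R y.down)
      (fun y => q y.down) (fun y => he y.down) (fun y => ⟨⟨y⟩, hy y⟩) _ _ fun y => ?_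
    change (Et18.Fppf.sectPresheaf F).map (q y.down).op ((ψ ≫ θ).hom.app T σ) =
      Et18.Fppf.res (q y.down) σ
    refine (ConcreteCategory.congr_hom ((ψ ≫ θ).hom.naturality (q y.down).op) _).symm.trans ?_
    change (ψ ≫ θ).hom.app (op (R y.down)) (Et18.Fppf.res (q y.down) σ) = Et18.Fppf.res (q y.down) σ
    rw [hr y.down]
    refine (ConcreteCategory.congr_hom ((ψ ≫ θ).hom.naturality (m y.down).op) _).trans ?_
    refine congrArg (Et18.Fppf.res (m y.down)) ?_
    exact ConcreteCategory.congr_hom (congrArg (fun k => k.hom.app (op (U y.down))) hu) (t y.down)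


theorem isIso_unit (X : Scheme.{u}) (F : EtCoh.Ab X) : IsIso ((aAdj X).unit.app F) := by
  obtain ⟨e, he⟩ := exists_pullIso F
  haveI : IsIso ((BigSite.piEtAdj Scheme.etalePrecoverage X).unit.app F) :=
    (SiteRes.isIso_unit_etBig X).2 F
  have h1 : SiteRes.SectEt.sectUnit F = (BigSite.piEtAdj Scheme.etalePrecoverage X).unit.app F ≫
      (BigSite.resEt Scheme.etalePrecoverage X).map (SiteRes.SectEt.piPullSectIso F).hom := by
    exact ((BigSite.piEtAdj Scheme.etalePrecoverage X).homEquiv _ _).apply_symm_apply _ |>.symm.trans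
      ((BigSite.piEtAdj Scheme.etalePrecoverage X).homEquiv_unit _ _ _)
  haveI h1' : IsIso (SiteRes.SectEt.sectUnit F) := by rw [h1]; exact IsIso.comp_isIso
  let uu : F ⟶ (aPush X).obj (sectSh F) := ⟨(SiteRes.SectEt.sectUnit F).hom⟩
  haveI h2 : IsIso uu := h1'
  haveI : IsIso ((aAdj X).unit.app F ≫ (aPush X).map e.hom) := by rw [he]; exact h2
  exact IsIso.of_isIso_comp_right _ ((aPush X).map e.hom)

instance (X : Scheme.{u}) : IsIso (aAdj X).unit :=
  haveI := isIso_unit X
  NatIso.isIso_of_isIso_app _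

instance (X : Scheme.{u}) : (aPull X).Full := (aAdj X).fullyFaithfulLOfIsIsoUnit.full

instance (X : Scheme.{u}) : PreservesFiniteLimits (aPull X) :=
  inferInstanceAs (PreservesFiniteLimits (BigSite.piEtPull precoverage X))

instance (X : Scheme.{u}) : PreservesFiniteColimits (aPull X) :=
  haveI : PreservesColimitsOfSize.{0, 0} (aPull X) := (aAdj X).leftAdjoint_preservesColimits
  PreservesColimitsOfSize.preservesFiniteColimits _

instance (X : Scheme.{u}) : (aPull X).Additive := (aAdj X).left_adjoint_additive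

/-- Restriction to small sites commutes with direct image. -/
noncomputable def pushResIsoI (f : T ⟶ S) : pushI f ⋙ aPush S ≅ aPush T ⋙ EtCoh.push f :=
  haveI : (EtFppf.a S ⋙ Over.pullback f).IsContinuous S.smallEtaleTopology (J T) :=
    Functor.isContinuous_comp (EtFppf.a S) (Over.pullback f) _ (J S) _
  haveI : (EtCoh.bc f ⋙ EtFppf.a T).IsContinuous S.smallEtaleTopology (J T) :=
    Functor.isContinuous_comp (EtCoh.bc f) (EtFppf.a T) _ T.smallEtaleTopology _
  Functor.sheafPushforwardContinuousComp' (Iso.refl (EtFppf.a S ⋙ Over.pullback f)) AddCommGrpCat.{u + 1}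
      S.smallEtaleTopology (J S) (J T) ≪≫
    (Functor.sheafPushforwardContinuousComp' (SiteRes.aPullbackIso f).symm AddCommGrpCat.{u + 1}
      S.smallEtaleTopology T.smallEtaleTopology (J T)).symm

/-- Inverse images commute with base change. -/
noncomputable def aPullBaseIso (f : T ⟶ S) : aPull S ⋙ pullI f ≅ EtCoh.pull f ⋙ aPull T :=
  (((aAdj S).comp (BigSite.bigAdj precoverage f AddCommGrpCat.{u + 1})).ofNatIsoRight
      (pushResIsoI f)).leftAdjointUniq ((EtCoh.pullPushAdj f).comp (aAdj T))

/-- Inverse images commute with integral direct image. -/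
theorem nonempty_aPull_push (f : X ⟶ Y) [IsIntegralHom f] (F : EtCoh.Ab X) :
    Nonempty ((aPull Y).obj ((EtCoh.push f).obj F) ≅ (pushI f).obj ((aPull X).obj F)) := by
  obtain ⟨e₁, -⟩ := exists_pullIso ((EtCoh.push f).obj F)
  obtain ⟨e₂, -⟩ := exists_pullIso F
  have := isIso_descHom_pushUnit (f := f) (F := F)
  let p := (sheafToPresheaf _ _).mapIso (asIso (Et18.Fppf.descHom (Et18.Fppf.pushUnit f F)))
  exact ⟨e₁ ≪≫ (fullyFaithfulSheafToPresheaf _ _).preimageIso
    (X := sectSh ((EtCoh.push f).obj F)) (Y := (pushI f).obj (sectSh F)) p ≪≫ (pushI f).mapIso e₂.symm⟩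

end Groth.Agent.Desc19b.IntTop
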