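import Groth.Agent.Desc19b.IntTop.Induction
import Groth.Agent.Desc19b.FppfSS.Descent
import Groth.Agent.EtCmp.AdjExt
import Groth.Agent.EtZarCmp.Cohom

/-!
# The descent spectral sequence along coverings of the étale-integral topology
-/

set_option autoImplicit false
set_option backward.isDefEq.respectTransparency.types false
set_option backward.isDefEq.respectTransparency false
set_option linter.style.haveILetI false
set_option linter.all false
set_option synthInstance.maxHeartbeats 400000
set_option maxHeartbeats 800000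

universe w u

open CategoryTheory CategoryTheory.Limits CategoryTheory.Abelian AlgebraicGeometry Opposite

namespace Groth.Agent.Desc19b.IntTop

variable {X Y : Scheme.{u}}

theorem exactUpTo_resolution {M : AbI X} (I : InjectiveResolution M) (q : ℕ) :
    ExactUpTo I.cocomplex q := fun j _ =>
  kExactAt_of_exact (S := ShortComplex.mk _ _ (I.cocomplex.d_comp_d j (j + 1) (j + 2))) (I.exact_succ j)

theorem isEt_kernel_resolution {M : AbI X} (I : InjectiveResolution M) (h : IsEt M) :
    IsEt (kernel (I.cocomplex.d 0 1)) :=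
  h.of_iso (I.isLimitKernelFork.conePointUniqueUpToIso (limit.isLimit _))

theorem etExactAt_resolution {M : AbI X} (I : InjectiveResolution M) (h : IsEt M) (j : ℕ) :
    EtExactAt (I.cocomplex.d j (j + 1)) (I.cocomplex.d (j + 1) (j + 2)) :=
  kills j X I.cocomplex I.injective (isEt_kernel_resolution I h) (exactUpTo_resolution I (j + 1))

theorem isZero_rightDerived_of_exact {A B : Type*} [Category A] [Category B] [Abelian A] [Abelian B]
    [HasInjectiveResolutions A] (F : A ⥤ B) [F.Additive] {M : A} (I : InjectiveResolution M) (j : ℕ)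
    (h : ((ShortComplex.mk _ _ (I.cocomplex.d_comp_d j (j + 1) (j + 2))).map F).Exact) :
    IsZero ((F.rightDerived (j + 1)).obj M) := by
  refine IsZero.of_iso ?_ (I.isoRightDerivedObj F (j + 1))
  rw [HomologicalComplex.homologyFunctor_obj, ← HomologicalComplex.exactAt_iff_isZero_homology,
    HomologicalComplex.exactAt_iff' _ j (j + 1) (j + 2) (by simp) (by simp)]
  exact h

theorem etCycles_injective (S : ShortComplex (EtCoh.Ab X)) (U : X.Etale) :
    Function.Injective (S.iCycles.hom.app (op U)) := by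
  haveI : Mono S.iCycles.hom := inferInstanceAs (Mono ((sheafToPresheaf _ _).map S.iCycles))
  exact (AddCommGrpCat.mono_iff_injective _).1 (inferInstanceAs (Mono (S.iCycles.hom.app (op U))))

/-- Exactness on the small site from local lifts. -/
theorem exact_of_local (S : ShortComplex (EtCoh.Ab X))
    (h : ∀ (U : X.Etale) (x : S.X₂.obj.obj (op U)), S.g.hom.app (op U) x = 0 →
      ∀ t : U.left, ∃ (U' : X.Etale) (g : U' ⟶ U) (w : U'.left), g.left w = t ∧
        ∃ y : S.X₁.obj.obj (op U'), S.f.hom.app (op U') y = S.X₂.obj.map g.op x) : S.Exact := by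
  rw [ShortComplex.exact_iff_epi_toCycles]
  haveI : Sheaf.IsLocallySurjective S.toCycles := ⟨fun {U} z => by
    refine Et18.mem_smallEtaleTopology_of_points _ fun t => ?_
    have hz : S.g.hom.app (op U) (S.iCycles.hom.app (op U) z) = 0 :=
      ConcreteCategory.congr_hom (congrArg (fun k => k.hom.app (op U)) S.iCycles_g) z
    obtain ⟨U', g, w, hw, y, hy⟩ := h U _ hz t
    refine ⟨U', g, w, ⟨y, etCycles_injective S U' ?_⟩, Et18.etale_map_left g, hw⟩
    refine (ConcreteCategory.congr_hom (congrArg (fun k => k.hom.app (op U')) S.toCycles_i) y).trans ?_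
    exact hy.trans (ConcreteCategory.congr_hom (S.iCycles.hom.naturality g.op) z).symm⟩
  exact Sheaf.epi_of_isLocallySurjective _

/-- Restriction of the inverse image to the small site is acyclic. -/
theorem isZero_RaPush (F : EtCoh.Ab X) (q : ℕ) (hq : 0 < q) :
    IsZero ((BigSite.RresEt precoverage X q).obj ((aPull X).obj F)) := by
  obtain ⟨j, rfl⟩ : ∃ j, q = j + 1 := ⟨q - 1, by omega⟩
  let I := injectiveResolution ((aPull X).obj F)
  refine isZero_rightDerived_of_exact (aPush X) I j (exact_of_local _ fun U x hx t => ?_)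
  obtain ⟨R, g, hg, ⟨w, hw⟩, y, hy⟩ := etExactAt_resolution I ⟨F, ⟨Iso.refl _⟩⟩ j ((EtFppf.a X).obj U) x hx t
  haveI : Etale U.hom := U.prop
  haveI : Etale (g.left ≫ U.hom) := inferInstance
  let U' : X.Etale := Scheme.Etale.mk (g.left ≫ U.hom)
  let g' : U' ⟶ U := MorphismProperty.Over.homMk g.left rfl
  let c : (EtFppf.a X).obj U' ⟶ R := Over.homMk (𝟙 R.left) ((Category.id_comp _).trans (Over.w g).symm)
  have hc : c ≫ g = (EtFppf.a X).map g' := Over.OverMorphism.ext (Category.id_comp _)
  refine ⟨U', g', w, hw, rs (I.cocomplex.X j) c y, ?_⟩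
  change ap (I.cocomplex.d j (j + 1)) _ (rs _ c y) = rs (I.cocomplex.X (j + 1)) ((EtFppf.a X).map g') x
  rw [← hc, ap_rs, hy, rs_rs]

/-- Étale and fppf cohomology of an étale sheaf. -/
theorem nonempty_H_equiv_HF (X : Scheme.{u}) (F : EtCoh.Ab X) (n : ℕ) :
    Nonempty (EtCoh.H X F n ≃+ BigSite.H precoverage X ((aPull X).obj F) n) := by
  let adj := aAdj X
  let A := AddCommGrpCat.of (ULift.{u + 1} ℤ)
  haveI : (aPull X).Additive := adj.left_adjoint_additive
  let e : (aPull X).obj ((constantSheaf X.smallEtaleTopology AddCommGrpCat.{u + 1}).obj A) ≅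
      (constantSheaf (J X) AddCommGrpCat.{u + 1}).obj A :=
    ((((constantSheafAdj X.smallEtaleTopology AddCommGrpCat.{u + 1} (EtCore.topIsTerminal X)).comp adj).ofNatIsoRight
      (show aPush X ⋙ (sheafSections X.smallEtaleTopology AddCommGrpCat.{u + 1}).obj (op (EtCoh.top X)) ≅
          (sheafSections (J X) AddCommGrpCat.{u + 1}).obj (op (Over.mk (𝟙 X))) from
        NatIso.ofComponents (fun _ => Iso.refl _) (fun f => by
          dsimp
          simp only [Category.comp_id, Category.id_comp]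
          rfl))).leftAdjointUniq
      (constantSheafAdj (J X) AddCommGrpCat.{u + 1} Over.mkIdTerminal)).app A
  have h := EtCmp.bijective_adjExtHom adj ((constantSheaf X.smallEtaleTopology AddCommGrpCat.{u + 1}).obj A) n
    ((aPull X).obj F) (fun q hq => isZero_RaPush F q hq)
  let e₁ : EtCoh.H X F n ≃+ EtCoh.H X ((aPush X).obj ((aPull X).obj F)) n :=
    ((EtCoh.HF X n).mapIso (asIso ((aAdj X).unit.app F))).addCommGroupIsoToAddEquiv
  let e' : Ext.{u + 1} ((aPull X).obj ((constantSheaf X.smallEtaleTopology AddCommGrpCat.{u + 1}).obj A))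
      ((aPull X).obj F) n ≃+ BigSite.H precoverage X ((aPull X).obj F) n :=
    { toFun := fun x => (Ext.mk₀ e.inv).comp x (zero_add n)
      invFun := fun x => (Ext.mk₀ e.hom).comp x (zero_add n)
      left_inv := fun x => by
        dsimp only
        rw [Ext.mk₀_comp_mk₀_assoc, Iso.hom_inv_id, Ext.mk₀_id_comp]
      right_inv := fun x => by
        dsimp only
        rw [Ext.mk₀_comp_mk₀_assoc, Iso.inv_hom_id, Ext.mk₀_id_comp]
      map_add' := fun x y => Ext.comp_add _ _ _ _ }
  exact ⟨e₁.trans ((AddEquiv.ofBijective _ h).trans e')⟩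

/-- Sections over an object of the big fppf site. -/
noncomputable abbrev secAt {T : Scheme.{u}} (Z : Over T) : AbI T ⥤ AddCommGrpCat.{u + 1} :=
  EtCechLib.sectionsAt (J T) Z

/-- Derived functors of a composite with an exact functor preserving injectives. -/
theorem nonempty_rightDerived_comp_exact {A B D : Type*} [Category A] [Category B] [Category D]
    [Abelian A] [Abelian B] [Abelian D] [HasInjectiveResolutions A] [HasInjectiveResolutions B]
    (R : A ⥤ B) [R.Additive] [PreservesFiniteLimits R] [PreservesFiniteColimits R]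
    [R.PreservesInjectiveObjects] (G : B ⥤ D) [G.Additive] (M : A) (q : ℕ) :
    Nonempty (((R ⋙ G).rightDerived q).obj M ≅ (G.rightDerived q).obj (R.obj M)) :=
  ⟨(injectiveResolution M).isoRightDerivedObj (R ⋙ G) q ≪≫
    ((SiteCoh.mapResolution R (injectiveResolution M)).isoRightDerivedObj G q).symm⟩

/-- Global sections on the big fppf site have fppf cohomology as derived functors. -/
theorem nonempty_sectionsTop_derived (T : Scheme.{u}) (M : AbI T) (q : ℕ) :
    Nonempty (((secAt (T := T) (Over.mk (𝟙 T))).rightDerived q).obj M ≅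
      AddCommGrpCat.of (BigSite.H precoverage T M q)) := by
  let A := AddCommGrpCat.of (ULift.{u + 1} ℤ)
  let adj := constantSheafAdj (J T) AddCommGrpCat.{u + 1} (Over.mkIdTerminal (X := T))
  let G := (sheafSections (J T) AddCommGrpCat.{u + 1}).obj (op (Over.mk (𝟙 T)))
  haveI : G.Additive := adj.right_adjoint_additive
  let e₁ : secAt (T := T) (Over.mk (𝟙 T)) ≅ G :=
    NatIso.ofComponents (fun _ => Iso.refl _) (fun f => by
      simp only [Iso.refl_hom, Category.comp_id, Category.id_comp]; rfl)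
  let e : secAt (T := T) (Over.mk (𝟙 T)) ≅
      SpecSeq.homFrom ((constantSheaf (J T) AddCommGrpCat.{u + 1}).obj A) :=
    e₁ ≪≫ (Functor.rightUnitor G).symm ≪≫ Functor.isoWhiskerLeft G FppfSS.homFromIntIso.symm ≪≫
      SpecSeq.homFromCompIso adj A
  exact ⟨(SiteCoh.rightDerivedCongr e q).app M ≪≫ SpecSeq.homFromDerivedIso _ M q⟩

/-- Sections over an object are global sections of the restriction. -/
noncomputable def sectionsRestrIso (Z : Over Y) :
    secAt (T := Y) Z ≅
      pullI Z.hom ⋙ secAt (T := Z.left) (Over.mk (𝟙 Z.left)) :=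
  NatIso.ofComponents
    (fun F => F.obj.mapIso (Over.isoMk (Iso.refl Z.left) (by simp) :
      (Over.map Z.hom).obj (Over.mk (𝟙 Z.left)) ≅ Z).op)
    (fun φ => (φ.hom.naturality _).symm)

/-- Sections over an object have fppf cohomology of the restriction as derived functors. -/
theorem nonempty_sectionsAt_derived (Z : Over Y) (F : EtCoh.Ab Y) (q : ℕ) :
    Nonempty (((secAt (T := Y) Z).rightDerived q).obj ((aPull Y).obj F) ≅
      AddCommGrpCat.of (EtCoh.H Z.left ((EtCoh.pull Z.hom).obj F) q)) := by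
  obtain ⟨e₁⟩ := nonempty_rightDerived_comp_exact (pullI Z.hom)
    (secAt (T := Z.left) (Over.mk (𝟙 Z.left))) ((aPull Y).obj F) q
  obtain ⟨e₂⟩ := nonempty_sectionsTop_derived Z.left ((aPull Z.left).obj ((EtCoh.pull Z.hom).obj F)) q
  obtain ⟨e₃⟩ := nonempty_H_equiv_HF Z.left ((EtCoh.pull Z.hom).obj F) q
  exact ⟨(SiteCoh.rightDerivedCongr (sectionsRestrIso Z) q).app _ ≪≫ e₁ ≪≫
    ((secAt (T := Z.left) (Over.mk (𝟙 Z.left))).rightDerived q).mapIso
      ((aPullBaseIso Z.hom).app F) ≪≫ e₂ ≪≫ e₃.symm.toAddCommGrpIso⟩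

variable (f : X ⟶ Y)

/-- The covering with one member. -/
noncomputable abbrev fam : PUnit.{u + 2} → Over (Over.mk (𝟙 Y)) :=
  fun _ => Over.mk (Over.homMk f (Category.comp_id f) : Over.mk f ⟶ Over.mk (𝟙 Y))

theorem mem_fam {R : Sieve (Over.mk (𝟙 Y))}
    (hR : Sieve.ofArrows (fun i => (fam f i).left) (fun i => (fam f i).hom) ≤ R)
    (h : Cov (Sieve.generate (Presieve.singleton f))) : R ∈ J Y (Over.mk (𝟙 Y)) := by
  refine (J Y).superset_covering hR (mem_J_iff.2 ⟨fun Z z w => ?_⟩)
  obtain ⟨S', e, n, V, π, he, hw, hi, hs, hm⟩ := h.loc Z z w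
  refine ⟨S', e, n, V, π, he, hw, hi, hs, fun a => ?_⟩
  obtain ⟨_, g, _, ⟨⟩, hg⟩ := hm a
  rw [Sieve.overEquiv_iff, Sieve.mem_ofArrows_iff]
  exact ⟨⟨⟩, Over.homMk g ((show g ≫ f = π a ≫ e ≫ z from hg).trans (Category.comp_id _).symm),
    Over.OverMorphism.ext hg.symm⟩

/-- The members of the Čech complex are the fibre powers. -/
noncomputable def interIso [HasFiniteProducts (Over (Over.mk (𝟙 Y)))] (p : ℕ) :
    Over.mk (WidePullback.base (fun _ : Fin (p + 1) => f)) ≅
      (SiteCoh.Cech.inter (fam f) (default : Fin (p + 1) → PUnit.{u + 2})).left :=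
  let I := SiteCoh.Cech.inter (fam f) (default : Fin (p + 1) → PUnit.{u + 2})
  let pr : ∀ k : Fin (p + 1), I.left.left ⟶ X := fun k =>
    (Pi.π (fun k : Fin (p + 1) => fam f ((default : Fin (p + 1) → PUnit.{u + 2}) k)) k).left.left
  have hpr : ∀ k, pr k ≫ f = I.left.hom := fun k =>
    Over.w (Pi.π (fun k : Fin (p + 1) => fam f ((default : Fin (p + 1) → PUnit.{u + 2}) k)) k).left
  let Q : Over (Over.mk (𝟙 Y)) :=
    Over.mk (Over.homMk (WidePullback.base (fun _ : Fin (p + 1) => f)) (Category.comp_id _) :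
      Over.mk (WidePullback.base (fun _ : Fin (p + 1) => f)) ⟶ Over.mk (𝟙 Y))
  let l : Q ⟶ I := Pi.lift fun k => Over.homMk
    (Over.homMk (WidePullback.π (fun _ : Fin (p + 1) => f) k) (WidePullback.π_arrow _ k))
    (Over.OverMorphism.ext (WidePullback.π_arrow (fun _ : Fin (p + 1) => f) k))
  let m : I.left ⟶ Over.mk (WidePullback.base (fun _ : Fin (p + 1) => f)) :=
    Over.homMk (WidePullback.lift I.left.hom pr hpr) (WidePullback.lift_base _ _ _ _)
  have hl : ∀ k, l.left.left ≫ pr k = WidePullback.π (fun _ : Fin (p + 1) => f) k := fun k =>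
    congrArg (fun a => a.left.left) (Pi.lift_π _ k : l ≫ Pi.π _ k = _)
  { hom := l.left
    inv := m
    hom_inv_id := by
      refine Over.OverMorphism.ext (WidePullback.hom_ext _ _ _ (fun k => ?_) ?_)
      · change (l.left.left ≫ WidePullback.lift I.left.hom pr hpr) ≫ _ = 𝟙 _ ≫ _
        rw [Category.assoc, WidePullback.lift_π, Category.id_comp, hl]
      · change (l.left.left ≫ WidePullback.lift I.left.hom pr hpr) ≫ _ = 𝟙 _ ≫ _
        rw [Category.assoc, WidePullback.lift_base, Category.id_comp]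
        exact Over.w l.left
    inv_hom_id := by
      let m' : I ⟶ Q := Over.homMk m (Over.OverMorphism.ext
        ((WidePullback.lift_base _ _ _ _).trans ((Over.w I.hom).symm.trans (Category.comp_id _))))
      have h : m' ≫ l = 𝟙 I := Pi.hom_ext _ _ fun k => by
        rw [Category.id_comp, Category.assoc, Pi.lift_π]
        exact Over.OverMorphism.ext (Over.OverMorphism.ext (WidePullback.lift_π _ _ _ _ _))
      exact congrArg CommaMorphism.left h }

/-- The descent spectral sequence of an fppf covering, for étale cohomology. -/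
theorem exists_descent (h : Cov (Sieve.generate (Presieve.singleton f))) (F : EtCoh.Ab Y)
    {H : ℤ → AddCommGrpCat.{u + 1}} {E1 : ℤ → ℤ → AddCommGrpCat.{u + 1}}
    (eH : ∀ n : ℕ, Nonempty (AddCommGrpCat.of (EtCoh.H Y F n) ≅ H n))
    (zH : ∀ n : ℤ, n < 0 → IsZero (H n))
    (eX : ∀ p q : ℕ, Nonempty (AddCommGrpCat.of
      (EtCoh.H (widePullback Y (fun _ : Fin (p + 1) => X) (fun _ => f))
        ((EtCoh.pull (WidePullback.base (fun _ : Fin (p + 1) => f) :
          widePullback Y (fun _ : Fin (p + 1) => X) (fun _ => f) ⟶ Y)).obj F) q) ≅ E1 p q))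
    (zX : ∀ p q : ℤ, ¬ (0 ≤ p ∧ 0 ≤ q) → IsZero (E1 p q)) :
    ∃ (E : CohomologicalSpectralSequence AddCommGrpCat.{u + 1} 1) (a : SpSeq.Abutment E H),
      (∀ n, a.IsFinite n) ∧ SpSeq.IsBounded E ∧
      ∀ p q : ℤ, Nonempty ((E.page 1 le_rfl).X (p, q) ≅ E1 p q) := by
  haveI : HasFiniteProducts (Over (Over.mk (𝟙 Y))) := inferInstance
  refine SpecSeq.exists_complexFunctor_pageOne (FppfSS.cxFunctor (J Y) (fam f))
    (fun Q hQ q => FppfSS.isZero_cxFunctor_homology (fam f) Q q) ((aPull Y).obj F) (fun n => ?_) zH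
    (fun p q => ?_) zX
  · obtain ⟨e₁⟩ := nonempty_sectionsTop_derived Y ((aPull Y).obj F) n
    obtain ⟨e₂⟩ := nonempty_H_equiv_HF Y F n
    obtain ⟨e₃⟩ := eH n
    exact ⟨(SiteCoh.rightDerivedCongr (FppfSS.hZeroIso (fam f) (mem_fam f le_rfl h)).symm n).app _ ≪≫ e₁ ≪≫
      e₂.symm.toAddCommGrpIso ≪≫ e₃⟩
  · obtain ⟨e₁⟩ := nonempty_sectionsAt_derived
      (Over.mk (WidePullback.base (fun _ : Fin (p + 1) => f))) F q
    obtain ⟨e₂⟩ := eX p q
    exact ⟨(SiteCoh.rightDerivedCongr (FppfSS.degIso (fam f) p ≪≫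
      (NatIso.ofComponents (fun G => G.obj.mapIso (interIso f p).op) (fun φ => (φ.hom.naturality _).symm) :
        secAt (SiteCoh.Cech.inter (fam f) (default : Fin (p + 1) → PUnit.{u + 2})).left ≅
          secAt (Over.mk (WidePullback.base (fun _ : Fin (p + 1) => f))))) q).app _ ≪≫
      e₁ ≪≫ e₂⟩

end Groth.Agent.Desc19b.IntTop
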