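import Groth.Agent.Desc19b.IntTop.Lift

/-!
# Classes of étale sheaves die étale locally on the étale-integral site
-/

set_option autoImplicit false
set_option backward.isDefEq.respectTransparency.types false
set_option backward.isDefEq.respectTransparency false
set_option linter.style.haveILetI false
set_option linter.all false
set_option synthInstance.maxHeartbeats 400000

universe u

open CategoryTheory CategoryTheory.Limits AlgebraicGeometry Opposite

namespace Groth.Agent.Desc19b.IntTop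

variable {X Y S T : Scheme.{u}}

/-- Sheaves coming from the small étale site. -/
def IsEt (M : AbI S) : Prop := ∃ F : EtCoh.Ab S, Nonempty ((aPull S).obj F ≅ M)

theorem IsEt.of_iso {M N : AbI S} (h : IsEt M) (e : M ≅ N) : IsEt N := by
  obtain ⟨F, ⟨i⟩⟩ := h
  exact ⟨F, ⟨i ≪≫ e⟩⟩

theorem IsEt.pullBig {M : AbI S} (h : IsEt M) (f : T ⟶ S) : IsEt ((pullI f).obj M) := by
  obtain ⟨F, ⟨i⟩⟩ := h
  exact ⟨(EtCoh.pull f).obj F, ⟨((aPullBaseIso f).app F).symm ≪≫ (pullI f).mapIso i⟩⟩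

theorem IsEt.pushBig {M : AbI T} (h : IsEt M) (f : T ⟶ S) [IsIntegralHom f] :
    IsEt ((pushI f).obj M) := by
  obtain ⟨F, ⟨i⟩⟩ := h
  obtain ⟨e⟩ := nonempty_aPull_push f F
  exact ⟨(EtCoh.push f).obj F, ⟨e ≪≫ (pushI f).mapIso i⟩⟩

theorem IsEt.cokernel {M N : AbI S} (hM : IsEt M) (hN : IsEt N) (φ : M ⟶ N) : IsEt (cokernel φ) := by
  obtain ⟨F, ⟨i⟩⟩ := hM
  obtain ⟨G, ⟨j⟩⟩ := hN
  obtain ⟨ψ, hψ⟩ := (aPull S).map_surjective (i.hom ≫ φ ≫ j.inv)
  refine ⟨Limits.cokernel ψ, ⟨(PreservesCokernel.iso (aPull S) ψ) ≪≫ cokernel.mapIso _ _ i j ?_⟩⟩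
  rw [hψ]; simp

/-- Restriction to the small site of an object. -/
noncomputable abbrev resAlong (f : T ⟶ S) : AbI S ⥤ EtCoh.Ab T := pullI f ⋙ aPush T

/-- Restrictions of inverse images. -/
noncomputable def resAlongPullIso (f : T ⟶ S) : aPull S ⋙ resAlong f ≅ EtCoh.pull f :=
  (Functor.associator _ _ _).symm ≪≫ Functor.isoWhiskerRight (aPullBaseIso f) _ ≪≫
    Functor.associator _ _ _ ≪≫ Functor.isoWhiskerLeft _ (asIso (aAdj T).unit).symm ≪≫
    Functor.rightUnitor _

theorem IsEt.epi_resAlong {M N : AbI S} (hM : IsEt M) (hN : IsEt N) (φ : M ⟶ N) [Epi φ] (f : T ⟶ S) :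
    Epi ((resAlong f).map φ) := by
  obtain ⟨F, ⟨i⟩⟩ := hM
  obtain ⟨G, ⟨j⟩⟩ := hN
  obtain ⟨ψ, hψ⟩ := (aPull S).map_surjective (i.hom ≫ φ ≫ j.inv)
  haveI : (aPull S).Faithful := (aAdj S).fullyFaithfulLOfIsIsoUnit.faithful
  haveI : Epi ψ := (aPull S).epi_of_epi_map (by rw [hψ]; infer_instance)
  haveI : (EtCoh.pull f).PreservesEpimorphisms :=
    Functor.preservesEpimorphisms_of_adjunction (EtCoh.pullPushAdj f)
  haveI : Epi ((resAlong f).map ((aPull S).map ψ)) := by
    rw [show (resAlong f).map ((aPull S).map ψ) = (aPull S ⋙ resAlong f).map ψ from rfl,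
      ← NatIso.naturality_2 (resAlongPullIso f) ψ]
    infer_instance
  rw [show φ = i.inv ≫ (aPull S).map ψ ≫ j.hom by rw [hψ]; simp]
  simp only [Functor.map_comp]
  infer_instance

theorem IsEt.etLift_of_epi {M N : AbI S} (hM : IsEt M) (hN : IsEt N) (φ : M ⟶ N) [Epi φ]
    {W : Over S} (x : Sec N W) : EtLift φ x := by
  haveI := hM.epi_resAlong hN φ W.hom
  haveI : Sheaf.IsLocallySurjective ((resAlong W.hom).map φ) :=
    (Sheaf.isLocallySurjective_iff_epi' (A := AddCommGrpCat.{u + 1}) _).2 inferInstance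
  let w : (Over.map W.hom).obj ((EtFppf.a W.left).obj (EtCoh.top W.left)) ⟶ W := Over.homMk (𝟙 _) (by
    show 𝟙 W.left ≫ W.hom = 𝟙 W.left ≫ W.hom
    rfl)
  let x' : ToType (((resAlong W.hom).obj N).obj.obj (op (EtCoh.top W.left))) := rs N w x
  have hS := Presheaf.imageSieve_mem W.left.smallEtaleTopology ((resAlong W.hom).map φ).hom x'
  intro t
  have key : ∀ {U : W.left.Etale} (g : U ⟶ EtCoh.top W.left) (u' : U.left), g.left u' = t →
      Presheaf.imageSieve ((resAlong W.hom).map φ).hom x' g →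
      ∃ (R : Over S) (q : R ⟶ W), Etale q.left ∧ t ∈ Set.range q.left ∧
        ∃ y : Sec M R, ap φ R y = rs N q x := fun {U} g u' hu hi => by
    obtain ⟨y, hy⟩ := hi
    haveI := Et18.etale_map_left g
    exact ⟨(Over.map W.hom).obj ((EtFppf.a W.left).obj U), (Over.map W.hom).map ((EtFppf.a W.left).map g) ≫ w,
      inferInstanceAs (Etale (g.left ≫ 𝟙 _)), ⟨u', hu⟩, y, hy.trans (rs_rs N _ w x)⟩
  obtain ⟨𝒰, _, _, hU⟩ := (Scheme.mem_smallGrothendieckTopology _ _).1 hS
  obtain ⟨i, u', hu⟩ := ((Scheme.ofArrows_mem_precoverage_iff _).1 𝒰.mem₀).1 t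
  exact key _ u' hu (hU _ _ ⟨i⟩)

variable {X Y : Scheme.{u}}

theorem ap_add {A B : AbI X} (φ : A ⟶ B) (T : Over X) (x y : Sec A T) :
    ap φ T (x + y) = ap φ T x + ap φ T y := map_add _ _ _

theorem ap_sub {A B : AbI X} (φ : A ⟶ B) (T : Over X) (x y : Sec A T) :
    ap φ T (x - y) = ap φ T x - ap φ T y := map_sub _ _ _

theorem rs_sub (A : AbI X) {R T : Over X} (q : R ⟶ T) (x y : Sec A T) :
    rs A q (x - y) = rs A q x - rs A q y := map_sub _ _ _

theorem ap_zero {A B : AbI X} (φ : A ⟶ B) (T : Over X) : ap φ T 0 = 0 := map_zero _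

theorem ap_of_zero {A B : AbI X} (T : Over X) (x : Sec A T) : ap (0 : A ⟶ B) T x = 0 := rfl

theorem exists_kernel_sec {A B : AbI X} (φ : A ⟶ B) (T : Over X) (x : Sec A T) (hx : ap φ T x = 0) :
    ∃ z : Sec (kernel φ) T, ap (kernel.ι φ) T z = x := by
  let F := (sheafSections (J X) AddCommGrpCat.{u + 1}).obj (op T)
  haveI : PreservesFiniteLimits F :=
    inferInstanceAs (PreservesFiniteLimits (sheafToPresheaf (J X) AddCommGrpCat.{u + 1} ⋙
      (evaluation (Over X)ᵒᵖ AddCommGrpCat.{u + 1}).obj (op T)))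
  haveI : F.PreservesZeroMorphisms := ⟨fun _ _ => rfl⟩
  let S' := (ShortComplex.mk (kernel.ι φ) φ (kernel.condition φ)).map F
  have h : S'.Exact := ((ShortComplex.exact_and_mono_f_iff_f_is_kernel S').2
    ⟨KernelFork.mapIsLimit _ (kernelIsKernel φ) F⟩).1
  exact (ShortComplex.ab_exact_iff S').1 h x hx

theorem epi_of_kLift {A B : AbI X} (φ : A ⟶ B) (h : ∀ (T : Over X) (x : Sec B T), KLift φ x) :
    Epi φ := by
  haveI : Sheaf.IsLocallySurjective φ := ⟨fun {T} x => h T x⟩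
  exact Sheaf.epi_of_isLocallySurjective _

theorem sec_injective {A B : AbI X} (φ : A ⟶ B) [Mono φ] (T : Over X) :
    Function.Injective (ap φ T) := by
  haveI : Mono φ.hom := inferInstanceAs (Mono ((sheafToPresheaf _ _).map φ))
  exact (AddCommGrpCat.mono_iff_injective _).1 (inferInstanceAs (Mono (φ.hom.app (op T))))

/-- Exactness in positive degrees `≤ q`. -/
def ExactUpTo (C : CochainComplex (AbI X) ℕ) (q : ℕ) : Prop :=
  ∀ j < q, KExactAt (C.d j (j + 1)) (C.d (j + 1) (j + 2))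

/-- The induction statement. -/
def Kills (q : ℕ) : Prop :=
  ∀ (X : Scheme.{u}) (C : CochainComplex (AbI X) ℕ), (∀ n, Injective (C.X n)) →
    IsEt (kernel (C.d 0 1)) → ExactUpTo C (q + 1) → EtExactAt (C.d q (q + 1)) (C.d (q + 1) (q + 2))

/-- The base change of a complex. -/
noncomputable abbrev pullC (j : Y ⟶ X) (C : CochainComplex (AbI X) ℕ) :
    CochainComplex (AbI Y) ℕ :=
  ((pullI j).mapHomologicalComplex (ComplexShape.up ℕ)).obj C

theorem exactUpTo_pullC (j : Y ⟶ X) {C : CochainComplex (AbI X) ℕ} {q : ℕ} (h : ExactUpTo C q) :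
    ExactUpTo (pullC j C) q := by
  intro i hi R x hx
  have h' := mem_J_iff.1 (h i hi ((Over.map j).obj R) x hx)
  refine mem_J_iff.2 ⟨fun Z z w => ?_⟩
  obtain ⟨S', e, n, V, π, he, hw, hint, hs, hR⟩ := h'.loc Z z w
  refine ⟨S', e, n, V, π, he, hw, hint, hs, fun a => ?_⟩
  have h2 := hR a
  rw [Sieve.overEquiv_iff] at h2 ⊢
  obtain ⟨y, hy⟩ := h2
  let c : (Over.map j).obj (Over.mk ((π a ≫ e ≫ z) ≫ R.hom)) ⟶
      Over.mk ((π a ≫ e ≫ z) ≫ ((Over.map j).obj R).hom) :=
    Over.homMk (𝟙 _) ((Category.id_comp _).trans (Category.assoc _ _ _).symm)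
  refine ⟨rs (C.X i) c y, ?_⟩
  refine (ap_rs (C.d i (i + 1)) c y).trans ?_
  refine (congrArg (rs (C.X (i + 1)) c) hy).trans ((rs_rs _ _ _ _).trans ?_)
  exact congrArg (fun g => rs (C.X (i + 1)) g x) (Over.OverMorphism.ext (Category.id_comp _))

theorem isEt_kernel_pullC (j : Y ⟶ X) {C : CochainComplex (AbI X) ℕ} (h : IsEt (kernel (C.d 0 1))) :
    IsEt (kernel ((pullC j C).d 0 1)) :=
  (h.pullBig j).of_iso (PreservesKernel.iso (pullI j) (C.d 0 1))

section Step

variable {V : Scheme.{u}} (π : V ⟶ X) (C : CochainComplex (AbI X) ℕ)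

/-- The object over which the sections of the direct image complex are taken. -/
noncomputable abbrev wOb (T : Over X) : Over X := (Over.map π).obj ((Over.pullback π).obj T)

/-- Its projection. -/
noncomputable abbrev wPr (T : Over X) : wOb π T ⟶ T := (Over.mapPullbackAdj π).counit.app T

/-- The direct image of the base change. -/
noncomputable abbrev kC : CochainComplex (AbI X) ℕ :=
  ((pullI π ⋙ pushI π).mapHomologicalComplex (ComplexShape.up ℕ)).obj C

/-- The unit. -/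
noncomputable def η (n : ℕ) : C.X n ⟶ (kC π C).X n :=
  (BigSite.bigAdj precoverage π AddCommGrpCat.{u + 1}).unit.app (C.X n)

theorem η_app (n : ℕ) (T : Over X) (x : Sec (C.X n) T) :
    (ap (η π C n) T x : Sec (C.X n) (wOb π T)) = rs (C.X n) (wPr π T) x := rfl

theorem η_comm (n m : ℕ) : η π C n ≫ (kC π C).d n m = C.d n m ≫ η π C m :=
  ((BigSite.bigAdj precoverage π AddCommGrpCat.{u + 1}).unit.naturality (C.d n m)).symm

theorem η_d (n m : ℕ) (T : Over X) (x : Sec (C.X n) T) :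
    ap ((kC π C).d n m) T (ap (η π C n) T x) = ap (η π C m) T (ap (C.d n m) T x) := by
  rw [← ap_comp, η_comm, ap_comp]

variable [IsIntegralHom π] [Surjective π]

instance mono_η (n : ℕ) : Mono (η π C n) := by
  haveI : ∀ T : (Over X)ᵒᵖ, Mono ((η π C n).hom.app T) := fun T => by
    refine (AddCommGrpCat.mono_iff_injective _).2 fun x y hxy => ?_
    haveI : IsIntegralHom (wPr π T.unop).left :=
      inferInstanceAs (IsIntegralHom (pullback.fst T.unop.hom π))
    haveI : Surjective (wPr π T.unop).left := inferInstanceAs (Surjective (pullback.fst T.unop.hom π))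
    exact ext_of_integral (C.X n) (wPr π T.unop) x y hxy
  haveI : Mono (η π C n).hom := NatTrans.mono_of_mono_app _
  exact (sheafToPresheaf _ _).mono_of_mono_map (inferInstanceAs (Mono (η π C n).hom))

theorem etExactAt_kC {j : ℕ} (h : EtExactAt (C.d j (j + 1)) (C.d (j + 1) (j + 2))) :
    EtExactAt ((kC π C).d j (j + 1)) ((kC π C).d (j + 1) (j + 2)) := by
  intro T z hz t
  haveI : IsIntegralHom (wPr π T).left := inferInstanceAs (IsIntegralHom (pullback.fst T.hom π))
  obtain ⟨R, q, hq, ht, P, r, l, sq, hcomm, y, hy⟩ :=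
    exists_lift_of_finite (C.d j (j + 1)) (wPr π T) (h (wOb π T) z hz) t
  let m : wOb π R ⟶ wOb π T := (Over.map π).map ((Over.pullback π).map q)
  have hm : m ≫ wPr π T = wPr π R ≫ q := (Over.mapPullbackAdj π).counit.naturality q
  let c : wOb π R ⟶ P := Over.homMk (sq.lift m.left (wPr π R).left (congrArg (fun e => e.left) hm)) (by
    rw [← Over.w r, ← Category.assoc, sq.lift_fst]
    exact Over.w m)
  have hc : c ≫ r = m := Over.OverMorphism.ext (sq.lift_fst _ _ _)
  refine ⟨R, q, hq, ht, rs (C.X j) c y, ?_⟩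
  change ap (C.d j (j + 1)) _ (rs (C.X j) c y) = rs (C.X (j + 1)) m z
  rw [← hc, ap_rs, hy, rs_rs]

variable [hC : ∀ n, Injective (C.X n)]

/-- The retraction. -/
noncomputable def ret (n : ℕ) : (kC π C).X n ⟶ C.X n := Injective.factorThru (𝟙 _) (η π C n)

theorem η_ret (n : ℕ) : η π C n ≫ ret π C n = 𝟙 _ := Injective.comp_factorThru _ _

/-- The quotient complex. -/
noncomputable def qC : CochainComplex (AbI X) ℕ :=
  CochainComplex.of (fun n => cokernel (η π C n))
    (fun n => cokernel.map _ _ (C.d n (n + 1)) ((kC π C).d n (n + 1)) (η_comm π C n (n + 1)))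
    (fun n => coequalizer.hom_ext (by
      rw [cokernel.π_desc_assoc, Category.assoc, cokernel.π_desc, ← Category.assoc, HomologicalComplex.d_comp_d,
        zero_comp, comp_zero]))

/-- The projection. -/
noncomputable abbrev pr (n : ℕ) : (kC π C).X n ⟶ (qC π C).X n := cokernel.π (η π C n)

theorem pr_comm (n : ℕ) : pr π C n ≫ (qC π C).d n (n + 1) = (kC π C).d n (n + 1) ≫ pr π C (n + 1) := by
  unfold qC pr
  simp [CochainComplex.of, CochainComplex.of.d]

/-- The section of the projection. -/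
noncomputable def sec (n : ℕ) : (qC π C).X n ⟶ (kC π C).X n :=
  cokernel.desc (η π C n) (𝟙 _ - ret π C n ≫ η π C n) (by
    rw [Preadditive.comp_sub, ← Category.assoc, η_ret, Category.id_comp, Category.comp_id, sub_self])

theorem sec_pr (n : ℕ) : sec π C n ≫ pr π C n = 𝟙 _ := by
  refine (cancel_epi (pr π C n)).1 ?_
  rw [← Category.assoc]
  simp [sec, pr, Preadditive.sub_comp]

theorem injective_qC (n : ℕ) : Injective ((qC π C).X n) := by
  haveI := hC n
  haveI : PreservesFiniteLimits (pullI π) := SiteRes.preservesFiniteLimits_pullBig precoverage π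
  haveI : Injective ((pullI π).obj (C.X n)) :=
    (SiteRes.preservesInjectiveObjects_pullBig precoverage π).injective_obj inferInstance
  haveI : Injective ((kC π C).X n) :=
    Injective.injective_of_adjoint (BigSite.bigAdj precoverage π AddCommGrpCat.{u + 1})
      ((pullI π).obj (C.X n))
  refine ⟨fun g f _ => ⟨Injective.factorThru (g ≫ sec π C n) f ≫ pr π C n, ?_⟩⟩
  rw [← Category.assoc, Injective.comp_factorThru, Category.assoc, sec_pr, Category.comp_id]

theorem ap_pr_η (n : ℕ) (T : Over X) (x : Sec (C.X n) T) : ap (pr π C n) T (ap (η π C n) T x) = 0 := by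
  rw [← ap_comp, cokernel.condition]
  rfl

theorem ap_pr_sec (n : ℕ) (T : Over X) (w : Sec ((qC π C).X n) T) : ap (pr π C n) T (ap (sec π C n) T w) = w := by
  rw [← ap_comp, sec_pr]
  rfl

theorem exists_of_pr_eq_zero (n : ℕ) (T : Over X) (z : Sec ((kC π C).X n) T) (hz : ap (pr π C n) T z = 0) :
    ∃ a : Sec (C.X n) T, ap (η π C n) T a = z := by
  refine ⟨ap (ret π C n) T z, ?_⟩
  have h : ap (pr π C n ≫ sec π C n) T z = z - ap (η π C n) T (ap (ret π C n) T z) := by
    rw [show pr π C n ≫ sec π C n = 𝟙 _ - ret π C n ≫ η π C n from cokernel.π_desc _ _ _]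
    rfl
  rw [ap_comp, hz, ap_zero] at h
  exact (sub_eq_zero.1 h.symm).symm

theorem ap_qd (n : ℕ) (T : Over X) (z : Sec ((kC π C).X n) T) :
    ap ((qC π C).d n (n + 1)) T (ap (pr π C n) T z) = ap (pr π C (n + 1)) T (ap ((kC π C).d n (n + 1)) T z) := by
  rw [← ap_comp, pr_comm, ap_comp]

theorem exactUpTo_qC {q : ℕ} (hq : ExactUpTo C (q + 1))
    (hk : ∀ j < q, KExactAt ((kC π C).d j (j + 1)) ((kC π C).d (j + 1) (j + 2))) :
    ExactUpTo (qC π C) q := by
  intro j hj T w hw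
  let z := ap (sec π C (j + 1)) T w
  have hz : ap (pr π C (j + 1)) T z = w := ap_pr_sec π C _ T w
  obtain ⟨a, ha⟩ := exists_of_pr_eq_zero π C (j + 2) T (ap ((kC π C).d (j + 1) (j + 2)) T z)
    (by rw [← ap_qd, hz]; exact hw)
  have hda : ap (C.d (j + 2) (j + 3)) T a = 0 := by
    refine sec_injective (η π C (j + 3)) T ?_
    rw [← η_d, ha, ← ap_comp, HomologicalComplex.d_comp_d, ap_zero]
    rfl
  refine KLift.trans (hq (j + 1) (by omega) T a hda) fun R q₁ hR => ?_
  obtain ⟨b, hb⟩ : ∃ b, ap (C.d (j + 1) (j + 2)) R b = rs (C.X (j + 2)) q₁ a := hR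
  have hcoc : ap ((kC π C).d (j + 1) (j + 2)) R (rs _ q₁ z - ap (η π C (j + 1)) R b) = 0 := by
    rw [ap_sub, ap_rs, η_d, hb, ap_rs, ha, sub_self]
  refine KLift.of_mem (hk j hj R _ hcoc) fun P q₂ hP => ?_
  obtain ⟨c, hc⟩ : ∃ c, ap ((kC π C).d j (j + 1)) P c =
      rs ((kC π C).X (j + 1)) q₂ (rs _ q₁ z - ap (η π C (j + 1)) R b) := hP
  refine ⟨ap (pr π C j) P c, ?_⟩
  rw [ap_qd, hc, ap_rs, ap_sub, ap_pr_η, sub_zero, ap_rs, hz]

/-- The map on cocycles of degree zero. -/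
noncomputable def zMap : kernel (C.d 0 1) ⟶ kernel ((kC π C).d 0 1) :=
  kernel.map _ _ (η π C 0) (η π C 1) (η_comm π C 0 1).symm

/-- The map on cocycles of degree zero to the quotient. -/
noncomputable def zPr : kernel ((kC π C).d 0 1) ⟶ kernel ((qC π C).d 0 1) :=
  kernel.map _ _ (pr π C 0) (pr π C 1) (pr_comm π C 0).symm

theorem epi_zPr (hq : ExactUpTo C 1) : Epi (zPr π C) := by
  refine epi_of_kLift _ fun T w => ?_
  let z := ap (sec π C 0) T (ap (kernel.ι _) T w)
  have hz : ap (pr π C 0) T z = ap (kernel.ι _) T w := ap_pr_sec π C _ T _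
  obtain ⟨a, ha⟩ := exists_of_pr_eq_zero π C 1 T (ap ((kC π C).d 0 1) T z) (by
    rw [← ap_qd, hz, ← ap_comp, kernel.condition]; rfl)
  have hda : ap (C.d 1 2) T a = 0 := by
    refine sec_injective (η π C 2) T ?_
    rw [← η_d, ha, ← ap_comp, HomologicalComplex.d_comp_d, ap_zero]
    rfl
  refine KLift.of_mem (hq 0 Nat.one_pos T a hda) fun R q hR => ?_
  obtain ⟨b, hb⟩ : ∃ b, ap (C.d 0 1) R b = rs (C.X 1) q a := hR
  obtain ⟨y, hy⟩ := exists_kernel_sec ((kC π C).d 0 1) R (rs _ q z - ap (η π C 0) R b) (by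
    rw [ap_sub, ap_rs, η_d, hb, ap_rs, ha, sub_self])
  refine ⟨y, sec_injective (kernel.ι _) R ?_⟩
  rw [← ap_comp, zPr, kernel.lift_ι, ap_comp, hy, ap_sub, ap_pr_η, sub_zero, ap_rs, hz, ap_rs]

theorem isEt_kernel_qC (hq : ExactUpTo C 1) (h : IsEt (kernel (C.d 0 1))) : IsEt (kernel ((qC π C).d 0 1)) := by
  haveI := epi_zPr π C hq
  have w : zMap π C ≫ zPr π C = 0 := by
    refine (cancel_mono (kernel.ι _)).1 ?_
    simp [zMap, zPr]
  let S := ShortComplex.mk (zMap π C) (zPr π C) w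
  haveI : Mono (zMap π C) := by
    haveI : Mono (zMap π C ≫ kernel.ι _) := by
      rw [zMap, kernel.lift_ι]
      infer_instance
    exact mono_of_mono (zMap π C) (kernel.ι _)
  have hk : IsLimit (KernelFork.ofι S.f S.zero) := KernelFork.IsLimit.ofι' _ _ fun {W} m hm => by
    have h1 : (m ≫ kernel.ι _) ≫ cokernel.π (η π C 0) = 0 := by
      have := congrArg (· ≫ kernel.ι _) hm
      simpa [S, zPr] using this
    let l := Abelian.monoLift (η π C 0) (m ≫ kernel.ι _) h1
    have hl : l ≫ η π C 0 = m ≫ kernel.ι _ := Abelian.monoLift_comp _ _ _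
    refine ⟨kernel.lift _ l ((cancel_mono (η π C 1)).1 ?_), (cancel_mono (kernel.ι _)).1 ?_⟩
    · rw [Category.assoc, ← η_comm, ← Category.assoc, hl, Category.assoc, kernel.condition, comp_zero, zero_comp]
    · simp [S, zMap, hl]
  have hS : S.Exact := ShortComplex.exact_of_f_is_kernel _ hk
  haveI : Epi S.g := ‹Epi (zPr π C)›
  refine (h.cokernel ((h.pullBig π).pushBig π |>.of_iso
    (PreservesKernel.iso (pullI π ⋙ pushI π) (C.d 0 1))) (zMap π C)).of_iso ?_
  exact (cokernelIsCokernel S.f).coconePointUniqueUpToIso hS.gIsCokernel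

theorem step {q : ℕ} (hIH : ∀ j < q, Kills.{u} j) (h0 : IsEt (kernel (C.d 0 1))) (hq : ExactUpTo C (q + 1))
    (x : Sec (C.X (q + 1)) (Over.mk (𝟙 X))) (y : Sec (C.X q) (Over.mk π))
    (hy : ap (C.d q (q + 1)) _ y = rs (C.X (q + 1)) (Over.homMk π (Category.comp_id π)) x) :
    EtLift (C.d q (q + 1)) x := by
  have hk : ∀ j < q, KExactAt ((kC π C).d j (j + 1)) ((kC π C).d (j + 1) (j + 2)) := fun j hj T z hz =>
    (etExactAt_kC π C (hIH j hj X C hC h0 (fun i hi => hq i (by omega))) T z hz).kLift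
  let T₀ : Over X := Over.mk (𝟙 X)
  let v : wOb π T₀ ⟶ Over.mk π := Over.homMk ((Over.pullback π).obj T₀).hom
  let yy : Sec ((kC π C).X q) T₀ := rs (C.X q) v y
  have hyy : ap ((kC π C).d q (q + 1)) T₀ yy = ap (η π C (q + 1)) T₀ x := by
    change ap (C.d q (q + 1)) _ (rs (C.X q) v y) = rs (C.X (q + 1)) (wPr π T₀) x
    rw [ap_rs, hy, rs_rs]
    refine congrArg (fun e => rs (C.X (q + 1)) e x) (Over.OverMorphism.ext ?_)
    have h1 := Over.w (v ≫ (Over.homMk π (Category.comp_id π) : Over.mk π ⟶ T₀))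
    have h2 := Over.w (wPr π T₀)
    exact (Category.comp_id _).symm.trans (h1.trans (h2.symm.trans (Category.comp_id _)))
  let w := ap (pr π C q) T₀ yy
  have hw : ap ((qC π C).d q (q + 1)) T₀ w = 0 := by rw [ap_qd, hyy, ap_pr_η]
  have conclude : ∀ (R : Over X) (r : R ⟶ T₀) (z : Sec ((kC π C).X q) R),
      ap ((kC π C).d q (q + 1)) R z = 0 → ap (pr π C q) R z = rs _ r w →
      ∃ b, ap (C.d q (q + 1)) R b = rs _ r x := fun R r z hz hpz => by
    obtain ⟨b, hb⟩ := exists_of_pr_eq_zero π C q R (rs _ r yy - z) (by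
      rw [ap_sub, ap_rs, hpz, sub_self])
    refine ⟨b, sec_injective (η π C (q + 1)) R ?_⟩
    rw [← η_d, hb, ap_sub, hz, sub_zero, ap_rs, hyy, ap_rs]
  intro t
  cases q with
  | zero =>
    obtain ⟨w', hw'⟩ := exists_kernel_sec ((qC π C).d 0 1) T₀ w hw
    haveI := epi_zPr π C hq
    have hK : IsEt (kernel ((kC π C).d 0 1)) := (h0.pullBig π).pushBig π |>.of_iso
      (PreservesKernel.iso (pullI π ⋙ pushI π) (C.d 0 1))
    obtain ⟨R, r, hr, ht, z', hz'⟩ := hK.etLift_of_epi (isEt_kernel_qC π C hq h0) (zPr π C) w' t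
    refine ⟨R, r, hr, ht, conclude R r (ap (kernel.ι _) R z') (by rw [← ap_comp, kernel.condition]; rfl) ?_⟩
    rw [← ap_comp, show kernel.ι _ ≫ pr π C 0 = zPr π C ≫ kernel.ι _ from (kernel.lift_ι _ _ _).symm, ap_comp,
      hz', ap_rs, hw']
  | succ p =>
    obtain ⟨R, r, hr, ht, c, hc⟩ := hIH p (by omega) X (qC π C) (injective_qC π C)
      (isEt_kernel_qC π C (fun i hi => hq i (by omega)) h0) (exactUpTo_qC π C hq hk) T₀ w hw t
    refine ⟨R, r, hr, ht, conclude R r (ap ((kC π C).d p (p + 1)) R (ap (sec π C p) R c)) ?_ ?_⟩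
    · rw [← ap_comp, HomologicalComplex.d_comp_d]; rfl
    · rw [← ap_qd, ap_pr_sec, hc]

end Step

theorem kills (q : ℕ) : Kills.{u} q := by
  induction q using Nat.strong_induction_on with
  | _ q IH =>
  intro X C hC h0 hq T x hx
  refine EtLift.trans fun t => ?_
  obtain ⟨S', e, n, V₀, π₀, he, hte, hR, hπi, hπs⟩ :=
    exists_single (mem_J_iff.1 (hq q (by omega) T x hx)) T.left (𝟙 T.left) t
  haveI := he
  haveI := hπi
  haveI := hπs
  let T' : Over X := Over.mk (e ≫ T.hom)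
  let e' : T' ⟶ T := Over.homMk e
  refine ⟨T', e', he, hte, ?_⟩
  let j := T'.hom
  let π : (∐ V₀) ⟶ S' := Sigma.desc π₀
  have hI : ∀ n, Injective ((pullC j C).X n) := fun n =>
    (SiteRes.preservesInjectiveObjects_pullBig precoverage j).injective_obj (hC n)
  let w : (Over.map j).obj (Over.mk (𝟙 S')) ⟶ T' := Over.homMk (𝟙 S') (by
    change 𝟙 S' ≫ T'.hom = 𝟙 S' ≫ j
    rfl)
  let W : Over X := (Over.map j).obj (Over.mk π)
  let m : W ⟶ T := (Over.map j).map (Over.homMk π (Category.comp_id π) : Over.mk π ⟶ Over.mk (𝟙 S')) ≫ w ≫ e'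
  let R : Fin n → Over X := fun a => Over.mk (Sigma.ι V₀ a ≫ W.hom)
  let c : ∀ a, R a ⟶ W := fun a => Over.homMk (Sigma.ι V₀ a)
  have hy : ∀ a, ∃ y : Sec (C.X q) (R a), ap (C.d q (q + 1)) (R a) y = rs (C.X (q + 1)) (c a ≫ m) x := fun a => by
    have h1 := hR a
    rw [Sieve.overEquiv_iff] at h1
    obtain ⟨y, hy⟩ := h1
    let k : R a ⟶ Over.mk ((π₀ a ≫ e ≫ 𝟙 T.left) ≫ T.hom) := Over.homMk (𝟙 _) (by
      show 𝟙 _ ≫ (π₀ a ≫ e ≫ 𝟙 T.left) ≫ T.hom = Sigma.ι V₀ a ≫ π ≫ e ≫ T.hom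
      simp [π])
    refine ⟨rs (C.X q) k y, ?_⟩
    refine (ap_rs (C.d q (q + 1)) k y).trans ((congrArg (rs (C.X (q + 1)) k) hy).trans ((rs_rs _ _ _ _).trans ?_))
    refine congrArg (fun g => rs (C.X (q + 1)) g x) (Over.OverMorphism.ext ?_)
    show 𝟙 _ ≫ π₀ a ≫ e ≫ 𝟙 T.left = Sigma.ι V₀ a ≫ π ≫ 𝟙 S' ≫ e
    simp [π]
  choose y hy using hy
  have hcov : ∀ v : W.left, ∃ a : ULift.{u + 1} (Fin n), v ∈ Set.range (c a.down).left := fun v => by
    obtain ⟨a, va, rfl⟩ := (sigmaOpenCover V₀).exists_eq v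
    exact ⟨⟨a⟩, va, rfl⟩
  have hc : ∀ a : ULift.{u + 1} (Fin n), Etale (c a.down).left := fun a =>
    inferInstanceAs (Etale (Sigma.ι V₀ a.down))
  obtain ⟨yv, hyv⟩ := glue_of_etale (C.X q) (fun a : ULift.{u + 1} (Fin n) => R a.down) (fun a => c a.down) hc hcov
    (fun a => y a.down) fun a b Z ga gb hab => by
      by_cases hab' : a = b
      · subst hab'
        rw [show ga = gb from Over.OverMorphism.ext ((cancel_mono (Sigma.ι V₀ a.down)).1
          (congrArg (fun e => e.left) hab))]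
      · haveI : IsEmpty Z.left := ⟨fun z => by
          refine Set.disjoint_left.1 (TopologicalSpace.Opens.coe_disjoint.2
            (disjoint_opensRange_sigmaι V₀ a.down b.down fun e => hab' (ULift.ext _ _ e)))
            ⟨ga.left z, rfl⟩ ⟨gb.left z, ?_⟩
          exact (congrArg (fun e => e.left z) hab).symm⟩
        exact (subsingleton_sec_of_isEmpty (C.X q) Z).elim _ _
  have hyv' : ap (C.d q (q + 1)) W yv = rs (C.X (q + 1)) m x :=
    ext_of_etale (C.X (q + 1)) (fun a : ULift.{u + 1} (Fin n) => R a.down) (fun a => c a.down) hc hcov _ _ fun a => by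
      change rs (C.X (q + 1)) (c a.down) (ap (C.d q (q + 1)) W yv) = rs (C.X (q + 1)) (c a.down) (rs (C.X (q + 1)) m x)
      rw [← ap_rs, show rs (C.X q) (c a.down) yv = y a.down from hyv a, hy, rs_rs]
  have hstep := step (hC := hI) π (pullC j C) (q := q) IH (isEt_kernel_pullC j h0) (exactUpTo_pullC j hq)
    (rs (C.X (q + 1)) (w ≫ e') x) yv (by
      change ap (C.d q (q + 1)) _ yv = rs (C.X (q + 1)) _ (rs (C.X (q + 1)) (w ≫ e') x)
      rw [rs_rs]
      exact hyv')
  intro t'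
  obtain ⟨P, p, hp, ⟨z, hz⟩, b, hb⟩ := hstep t'
  refine ⟨(Over.map j).obj P, (Over.map j).map p ≫ w, inferInstanceAs (Etale (p.left ≫ 𝟙 _)), ⟨z, hz⟩, b, ?_⟩
  refine hb.trans ?_
  change rs (C.X (q + 1)) ((Over.map j).map p) (rs (C.X (q + 1)) (w ≫ e') x) = _
  rw [rs_rs, rs_rs, Category.assoc]

end Groth.Agent.Desc19b.IntTop
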