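import Groth.Agent.Desc19b.IntTop.Big
import Groth.Agent.Desc19b.FppfEt.Basic

/-!
# Étale sheaves on the étale-integral site: local lifts
-/

set_option autoImplicit false
set_option backward.isDefEq.respectTransparency.types false
set_option backward.isDefEq.respectTransparency false
set_option linter.style.haveILetI false
set_option linter.all false
set_option synthInstance.maxHeartbeats 400000

universe u

open CategoryTheory CategoryTheory.Limits AlgebraicGeometry Opposite

namespace Groth.Agent.Desc19b.IntTop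

variable {X Y S T : Scheme.{u}}

/-- A sheaf for the topology, seen as an étale sheaf. -/
abbrev asEt (H : AbI X) : BigSite.Ab Scheme.etalePrecoverage X :=
  ⟨H.obj, fun E => Presieve.isSheaf_of_le _ (et_le X) (H.property E)⟩

theorem ext_of_etale (H : AbI X) {W : Over X} {κ : Type (u + 1)} (R : κ → Over X) (a : ∀ k, R k ⟶ W)
    (he : ∀ k, Etale (a k).left) (hcov : ∀ y : W.left, ∃ k, y ∈ Set.range (a k).left)
    (s s' : H.obj.obj (op W)) (h : ∀ k, H.obj.map (a k).op s = H.obj.map (a k).op s') : s = s' :=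
  SiteRes.SectEt.ext_of_etale (asEt H) R a he hcov s s' h

theorem glue_of_etale (H : AbI X) {W : Over X} {κ : Type (u + 1)} (R : κ → Over X) (a : ∀ k, R k ⟶ W)
    (he : ∀ k, Etale (a k).left) (hcov : ∀ y : W.left, ∃ k, y ∈ Set.range (a k).left)
    (t : ∀ k, H.obj.obj (op (R k)))
    (h : ∀ (k l : κ) (P : Over X) (gk : P ⟶ R k) (gl : P ⟶ R l), gk ≫ a k = gl ≫ a l →
      H.obj.map gk.op (t k) = H.obj.map gl.op (t l)) :
    ∃ s : H.obj.obj (op W), ∀ k, H.obj.map (a k).op s = t k :=
  SiteRes.SectEt.glue_of_etale (asEt H) R a he hcov t h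

/-- Sections. -/
noncomputable abbrev Sec (A : AbI X) (T : Over X) : AddCommGrpCat.{u + 1} := A.obj.obj (op T)

/-- The map on sections. -/
noncomputable abbrev ap {A B : AbI X} (φ : A ⟶ B) (T : Over X) (x : Sec A T) : Sec B T :=
  φ.hom.app (op T) x

/-- Restriction of sections. -/
noncomputable abbrev rs (A : AbI X) {R T : Over X} (q : R ⟶ T) (x : Sec A T) : Sec A R :=
  A.obj.map q.op x

theorem rs_rs (A : AbI X) {P R T : Over X} (p : P ⟶ R) (q : R ⟶ T) (x : Sec A T) :
    rs A p (rs A q x) = rs A (p ≫ q) x := by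
  simp only [rs, op_comp, Functor.map_comp]
  rfl

theorem ap_rs {A B : AbI X} (φ : A ⟶ B) {R T : Over X} (q : R ⟶ T) (x : Sec A T) :
    ap φ R (rs A q x) = rs B q (ap φ T x) :=
  ConcreteCategory.congr_hom (φ.hom.naturality q.op) x

theorem ap_comp {A B C : AbI X} (φ : A ⟶ B) (ψ : B ⟶ C) (T : Over X) (x : Sec A T) :
    ap (φ ≫ ψ) T x = ap ψ T (ap φ T x) := rfl

theorem ext_of_integral (H : AbI X) {W V : Over X} (a : V ⟶ W) [IsIntegralHom a.left] [Surjective a.left]
    (s s' : Sec H W) (h : rs H a s = rs H a s') : s = s' := by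
  have hH : Presieve.IsSheaf (J X) (H.obj ⋙ forget AddCommGrpCat.{u + 1}) :=
    (CategoryTheory.isSheaf_iff_isSheaf_of_type _ _).1
      ((sheafCompose (J X) (forget AddCommGrpCat.{u + 1})).obj H).property
  have hm : Sieve.generate (Presieve.singleton a) ∈ J X W := by
    refine mem_J_iff.2 (cov_of_integral a.left ?_)
    rw [Sieve.overEquiv_iff]
    exact ⟨V, Over.homMk (𝟙 _) ((Category.id_comp _).trans (Over.w a).symm), a, Presieve.singleton_self a,
      Over.OverMorphism.ext (Category.id_comp _)⟩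
  refine (hH _ hm).isSeparatedFor.ext fun Z g hg => ?_
  obtain ⟨_, k, _, ⟨⟩, rfl⟩ := hg
  change rs H (k ≫ a) s = rs H (k ≫ a) s'
  rw [← rs_rs, ← rs_rs, h]

/-- A section lifts étale locally. -/
def EtLift {A B : AbI X} (φ : A ⟶ B) {T : Over X} (x : Sec B T) : Prop :=
  ∀ t : T.left, ∃ (R : Over X) (q : R ⟶ T), Etale q.left ∧
    t ∈ Set.range q.left ∧ ∃ y : Sec A R, ap φ R y = rs B q x

/-- A section lifts locally for the topology. -/
def KLift {A B : AbI X} (φ : A ⟶ B) {T : Over X} (x : Sec B T) : Prop :=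
  Presheaf.imageSieve φ.hom x ∈ J X T

theorem KLift.of_mem {A B : AbI X} {φ : A ⟶ B} {T : Over X} {x : Sec B T} {R : Sieve T} (hR : R ∈ J X T)
    (h : ∀ ⦃V : Over X⦄ (f : V ⟶ T), R f → ∃ y : Sec A V, ap φ V y = rs B f x) : KLift φ x :=
  (J X).superset_covering (fun V f hf => h f hf) hR

theorem KLift.trans {A B : AbI X} {φ : A ⟶ B} {T : Over X} {x : Sec B T} {R : Sieve T} (hR : R ∈ J X T)
    (h : ∀ ⦃V : Over X⦄ (f : V ⟶ T), R f → KLift φ (rs B f x)) : KLift φ x :=
  (J X).transitive hR _ fun V f hf => (J X).superset_covering (fun P g hg => by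
    obtain ⟨y, hy⟩ := hg
    exact ⟨y, hy.trans (rs_rs B g f x)⟩) (h f hf)

theorem EtLift.kLift {A B : AbI X} {φ : A ⟶ B} {T : Over X} {x : Sec B T} (h : EtLift φ x) : KLift φ x := by
  choose R q hq ht y hy using h
  refine mem_J_iff.2 (cov_of_etale (fun t => (q t).left) hq (fun t => ⟨t, ht t⟩) fun t => ?_)
  rw [Sieve.overEquiv_iff]
  let k : Over.mk ((q t).left ≫ T.hom) ⟶ R t :=
    Over.homMk (𝟙 (R t).left) ((Category.id_comp _).trans (Over.w (q t)).symm)
  have e : (Over.homMk (q t).left : Over.mk ((q t).left ≫ T.hom) ⟶ T) = k ≫ q t :=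
    Over.OverMorphism.ext (Category.id_comp _).symm
  rw [e]
  exact (Presheaf.imageSieve φ.hom x).downward_closed
    (show (Presheaf.imageSieve φ.hom x) (q t) from ⟨y t, hy t⟩) k

/-- Exactness at a spot, in sections up to coverings. -/
def KExactAt {A B C : AbI X} (φ : A ⟶ B) (ψ : B ⟶ C) : Prop :=
  ∀ (T : Over X) (x : Sec B T), ap ψ T x = 0 → KLift φ x

/-- Exactness at a spot, in sections up to étale coverings. -/
def EtExactAt {A B C : AbI X} (φ : A ⟶ B) (ψ : B ⟶ C) : Prop :=
  ∀ (T : Over X) (x : Sec B T), ap ψ T x = 0 → EtLift φ x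

theorem kExactAt_of_exact {S : ShortComplex (AbI X)} (hS : S.Exact) : KExactAt S.f S.g := by
  intro T x hx
  haveI := hS.epi_toCycles
  let F := (sheafSections (J X) AddCommGrpCat.{u + 1}).obj (op T)
  haveI : PreservesFiniteLimits F :=
    inferInstanceAs (PreservesFiniteLimits (sheafToPresheaf (J X) AddCommGrpCat.{u + 1} ⋙
      (evaluation (Over X)ᵒᵖ AddCommGrpCat.{u + 1}).obj (op T)))
  haveI : F.PreservesZeroMorphisms := ⟨fun _ _ => rfl⟩
  obtain ⟨z, hz⟩ : ∃ z : Sec S.cycles T, ap S.iCycles T z = x := by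
    let S' := (ShortComplex.mk S.iCycles S.g S.iCycles_g).map F
    have h : S'.Exact := ((ShortComplex.exact_and_mono_f_iff_f_is_kernel S').2
      ⟨KernelFork.mapIsLimit _ S.cyclesIsKernel F⟩).1
    exact (ShortComplex.ab_exact_iff S').1 h x hx
  haveI : Sheaf.IsLocallySurjective S.toCycles :=
    (Sheaf.isLocallySurjective_iff_epi' (A := AddCommGrpCat.{u + 1}) S.toCycles).2 inferInstance
  have hR := Presheaf.imageSieve_mem (J X) S.toCycles.hom z
  have hl' : ∀ ⦃V : Over X⦄ (f : V ⟶ T), (Presheaf.imageSieve S.toCycles.hom z).arrows f →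
      ∃ y : Sec S.X₁ V, ap S.toCycles V y = rs S.cycles f z := fun V f hf => hf
  refine KLift.of_mem hR fun V f hf => ?_
  obtain ⟨y, hy⟩ := hl' f hf
  refine ⟨y, ?_⟩
  rw [← hz, ← ap_rs, ← show S.toCycles ≫ S.iCycles = S.f from S.toCycles_i, ap_comp]
  exact congrArg (ap S.iCycles V) hy

theorem rs_add (A : AbI X) {R T : Over X} (q : R ⟶ T) (x y : Sec A T) :
    rs A q (x + y) = rs A q x + rs A q y := map_add _ _ _

theorem EtLift.trans {A B : AbI X} {φ : A ⟶ B} {T : Over X} {x : Sec B T}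
    (h : ∀ t : T.left, ∃ (R : Over X) (q : R ⟶ T), Etale q.left ∧ t ∈ Set.range q.left ∧ EtLift φ (rs B q x)) :
    EtLift φ x := fun t => by
  obtain ⟨R, q, hq, ⟨r, rfl⟩, hl⟩ := h t
  obtain ⟨P, p, hp, ⟨w, rfl⟩, y, hy⟩ := hl r
  have : Etale (p.left ≫ q.left) := inferInstance
  exact ⟨P, p ≫ q, this, ⟨w, rfl⟩, y, hy.trans (rs_rs B p q x)⟩

theorem subsingleton_sec_of_isEmpty (A : AbI X) (P : Over X) [IsEmpty P.left] : Subsingleton (Sec A P) :=
  ⟨fun s s' => ext_of_etale A (W := P) (fun k : PEmpty.{u + 2} => P) (fun k => k.elim) (fun k => k.elim)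
    (fun y => (IsEmpty.false y).elim) s s' fun k => k.elim⟩

/-- Lifts on a finite scheme over a scheme descend to lifts étale locally on it. -/
theorem exists_lift_of_finite' {A B : AbI X} (φ : A ⟶ B) {W : Over X} {T₀ : Scheme.{u}} (h : W.left ⟶ T₀)
    [IsIntegralHom h] {x : Sec B W} (hx : EtLift φ x) (t : T₀) :
    ∃ (R₀ : Scheme.{u}) (q : R₀ ⟶ T₀), Etale q ∧ t ∈ Set.range q ∧
      ∃ (P : Over X) (r : P ⟶ W) (l : P.left ⟶ R₀), IsPullback r.left l h q ∧
        ∃ y : Sec A P, ap φ P y = rs B r x := by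
  choose U g hge hgw y hy using hx
  haveI : ∀ w, Etale (g w).left := hge
  obtain ⟨V', p, hp, ⟨v, hv⟩, hsplit⟩ := Et18.exists_cover_lift h (fun w => (U w).left) (fun w => (g w).left)
    (fun w => ⟨w, hgw w⟩) t
  let P : Over X := Over.mk (pullback.fst h p ≫ W.hom)
  let r : P ⟶ W := Over.homMk (pullback.fst h p)
  have sq : IsPullback r.left (pullback.snd h p) h p := IsPullback.of_hasPullback h p
  obtain ⟨μ, O, hdisj, hsup, hO⟩ := hsplit (pullback.fst h p) (pullback.snd h p) sq
  refine ⟨V', p, hp, ⟨v, hv⟩, P, r, pullback.snd h p, sq, ?_⟩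
  choose i k hk using hO
  let Q : μ → Over X := fun a => Over.mk ((O a).ι ≫ P.hom)
  let c : ∀ a, Q a ⟶ P := fun a => Over.homMk (O a).ι
  let m : ∀ a, Q a ⟶ U (i a) := fun a => Over.homMk (k a) (by
    change k a ≫ (U (i a)).hom = (O a).ι ≫ pullback.fst h p ≫ W.hom
    rw [← Over.w (g (i a)), ← Category.assoc, hk a, Category.assoc])
  have hm : ∀ a, m a ≫ g (i a) = c a ≫ r := fun a => Over.OverMorphism.ext (hk a)
  have hz : ∀ a, ap φ (Q a) (rs A (m a) (y (i a))) = rs B (c a) (rs B r x) := fun a => by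
    rw [ap_rs, hy, rs_rs, rs_rs, hm]
  have hcov : ∀ z : P.left, ∃ a : ULift.{u + 1} μ, z ∈ Set.range (c a.down).left := fun z => by
    have : z ∈ ⨆ a, O a := hsup ▸ trivial
    obtain ⟨a, ha⟩ := TopologicalSpace.Opens.mem_iSup.1 this
    exact ⟨⟨a⟩, ⟨z, ha⟩, rfl⟩
  have hc : ∀ a : ULift.{u + 1} μ, Etale (c a.down).left := fun a => inferInstanceAs (Etale (O a.down).ι)
  obtain ⟨s, hs⟩ := glue_of_etale A (fun a : ULift.{u + 1} μ => Q a.down) (fun a => c a.down) hc hcov
    (fun a => rs A (m a.down) (y (i a.down))) fun a b Z ga gb hab => by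
      by_cases hab' : a = b
      · subst hab'
        have : Mono (c a.down).left := inferInstanceAs (Mono (O a.down).ι)
        rw [show ga = gb from Over.OverMorphism.ext ((cancel_mono (c a.down).left).1
          (congrArg (fun e => e.left) hab))]
      · have hne : a.down ≠ b.down := fun e => hab' (ULift.ext _ _ e)
        haveI : IsEmpty Z.left := ⟨fun z => by
          refine Set.disjoint_left.1 (TopologicalSpace.Opens.coe_disjoint.2 (hdisj _ _ hne)) (ga.left z).2 ?_
          have e : (c a.down).left (ga.left z) = (c b.down).left (gb.left z) :=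
            congrArg (fun e => e.left z) hab
          show (ga.left z).1 ∈ O b.down
          rw [show (ga.left z).1 = (gb.left z).1 from e]
          exact (gb.left z).2⟩
        exact (subsingleton_sec_of_isEmpty A Z).elim _ _
  refine ⟨s, ext_of_etale B (fun a : ULift.{u + 1} μ => Q a.down) (fun a => c a.down) hc hcov _ _ fun a => ?_⟩
  change rs B (c a.down) (ap φ P s) = rs B (c a.down) (rs B r x)
  rw [← ap_rs, show rs A (c a.down) s = rs A (m a.down) (y (i a.down)) from hs a, hz]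

/-- Lifts on a finite scheme over `T` descend to lifts étale locally on `T`. -/
theorem exists_lift_of_finite {A B : AbI X} (φ : A ⟶ B) {W T : Over X} (h : W ⟶ T) [IsIntegralHom h.left]
    {x : Sec B W} (hx : EtLift φ x) (t : T.left) :
    ∃ (R : Over X) (q : R ⟶ T), Etale q.left ∧ t ∈ Set.range q.left ∧
      ∃ (P : Over X) (r : P ⟶ W) (l : P ⟶ R), IsPullback r.left l.left h.left q.left ∧ r ≫ h = l ≫ q ∧
        ∃ y : Sec A P, ap φ P y = rs B r x := by
  obtain ⟨R₀, q, hq, ht, P, r, l, sq, y, hy⟩ := exists_lift_of_finite' φ h.left hx t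
  refine ⟨Over.mk (q ≫ T.hom), Over.homMk q, hq, ht, P, r, Over.homMk l ?_, sq, Over.OverMorphism.ext sq.w, y, hy⟩
  change l ≫ q ≫ T.hom = P.hom
  rw [← Category.assoc, ← sq.w, Category.assoc, Over.w h]
  exact Over.w r

end Groth.Agent.Desc19b.IntTop
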