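import Groth.Agent.Desc19b.SubmTop.Topology
import Groth.Agent.Et18.IntegralCover
import Groth.Prelude.Def_BigSite

/-!
# The topology generated by étale coverings and integral surjections
-/

set_option autoImplicit false
set_option backward.isDefEq.respectTransparency.types false
set_option backward.isDefEq.respectTransparency false
set_option linter.all false

universe u

open CategoryTheory CategoryTheory.Limits AlgebraicGeometry TopologicalSpace

namespace Groth.Agent.Desc19b.IntTop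

theorem isIntegralHom_sigmaDesc_fin {T : Scheme.{u}} : ∀ {n : ℕ} {W : Fin n → Scheme.{u}} (k : ∀ i, W i ⟶ T),
    (∀ i, IsIntegralHom (k i)) → IsIntegralHom (Sigma.desc k) := by
  intro n
  induction n with
  | zero =>
    intro W k _
    have : IsEmpty ↥(∐ W : Scheme.{u}) := ⟨fun x => by
      obtain ⟨i, -, -⟩ := (sigmaOpenCover W).exists_eq x
      exact i.elim0⟩
    infer_instance
  | succ n ih =>
    intro W k hk
    let W' : Fin n → Scheme.{u} := fun j => W j.succ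
    have : IsIntegralHom (k 0) := hk 0
    have : IsIntegralHom (Sigma.desc fun j => k (Fin.succ j)) := ih (W := W') _ fun j => hk _
    let g : W 0 ⨿ (∐ W') ⟶ ∐ W := coprod.desc (Sigma.ι W 0) (Sigma.desc fun j => Sigma.ι W (Fin.succ j))
    let h : (∐ W : Scheme.{u}) ⟶ W 0 ⨿ (∐ W') :=
      Sigma.desc (Fin.cases (motive := fun i => W i ⟶ W 0 ⨿ (∐ W')) coprod.inl
        fun j => Sigma.ι W' j ≫ coprod.inr)
    have hhg : h ≫ g = 𝟙 _ := by
      refine Sigma.hom_ext _ _ fun i => ?_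
      rw [← Category.assoc, Sigma.ι_desc, Category.comp_id]
      refine Fin.cases ?_ (fun j => ?_) i
      · exact coprod.inl_desc _ _
      · show (Sigma.ι W' j ≫ coprod.inr) ≫ g = _
        rw [Category.assoc, coprod.inr_desc, Sigma.ι_desc]
    have hgh : g ≫ h = 𝟙 _ := by
      apply coprod.hom_ext
      · rw [coprod.inl_desc_assoc, Sigma.ι_desc, Category.comp_id]
        rfl
      · rw [coprod.inr_desc_assoc, Category.comp_id]
        refine Sigma.hom_ext _ _ fun j => ?_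
        rw [← Category.assoc, Sigma.ι_desc, Sigma.ι_desc]
        rfl
    have : IsIso h := ⟨g, hhg, hgh⟩
    have e : Sigma.desc k = h ≫ coprod.desc (k 0) (Sigma.desc fun j => k (Fin.succ j)) := by
      refine Sigma.hom_ext _ _ fun i => ?_
      rw [Sigma.ι_desc, ← Category.assoc, Sigma.ι_desc]
      refine Fin.cases ?_ (fun j => ?_) i
      · exact (coprod.inl_desc _ _).symm
      · show _ = (Sigma.ι W' j ≫ coprod.inr) ≫ _
        rw [Category.assoc, coprod.inr_desc, Sigma.ι_desc]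
    rw [e]
    infer_instance

/-- A clopen subscheme is integral over the scheme. -/
theorem isIntegralHom_ι_of_isClosed {P : Scheme.{u}} (O : P.Opens) (h : IsClosed (O : Set P)) :
    IsIntegralHom O.ι := by
  haveI : IsClosedImmersion O.ι :=
    IsClosedImmersion.of_isPreimmersion _ (by rw [Scheme.Opens.range_ι]; exact h)
  infer_instance

/-- Sieves which, étale locally, contain a jointly surjective finite family of integral maps. -/
structure Cov {T : Scheme.{u}} (R : Sieve T) : Prop where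
  loc : ∀ (Z : Scheme.{u}) (z : Z ⟶ T) (w : Z), ∃ (S' : Scheme.{u}) (e : S' ⟶ Z) (n : ℕ)
    (V : Fin n → Scheme.{u}) (π : ∀ a, V a ⟶ S'),
    Etale e ∧ w ∈ Set.range e ∧ (∀ a, IsIntegralHom (π a)) ∧ (∀ s, ∃ a, s ∈ Set.range (π a)) ∧
      ∀ a, R (π a ≫ e ≫ z)

/-- One integral surjection suffices. -/
theorem exists_single {T : Scheme.{u}} {R : Sieve T} (hR : Cov R) (Z : Scheme.{u}) (z : Z ⟶ T) (w : Z) :
    ∃ (S' : Scheme.{u}) (e : S' ⟶ Z) (n : ℕ) (V : Fin n → Scheme.{u}) (π : ∀ a, V a ⟶ S'),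
      Etale e ∧ w ∈ Set.range e ∧ (∀ a, R (π a ≫ e ≫ z)) ∧ IsIntegralHom (Sigma.desc π) ∧
        Surjective (Sigma.desc π) := by
  obtain ⟨S', e, n, V, π, he, hw, hi, hs, hR⟩ := hR.loc Z z w
  refine ⟨S', e, n, V, π, he, hw, hR, isIntegralHom_sigmaDesc_fin π hi, ⟨fun s => ?_⟩⟩
  obtain ⟨a, y, rfl⟩ := hs s
  exact ⟨Sigma.ι V a y, by rw [← Scheme.Hom.comp_apply, Sigma.ι_desc]⟩

theorem Cov.trans {T : Scheme.{u}} {R R' : Sieve T} (hR : Cov R)
    (h : ∀ ⦃Y : Scheme.{u}⦄ ⦃f : Y ⟶ T⦄, R f → Cov (R'.pullback f)) : Cov R' := by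
  refine ⟨fun Z z w => ?_⟩
  obtain ⟨S₀, e, n₀, V₀, π₀, he, ⟨s, rfl⟩, hR, hπ, hπs⟩ := exists_single hR Z z w
  let V : Scheme.{u} := ∐ V₀
  let π : V ⟶ S₀ := Sigma.desc π₀
  have hU : ∀ v : V, ∃ (U : Scheme.{u}) (g : U ⟶ V) (k : ℕ) (W : Fin k → Scheme.{u}) (q : ∀ b, W b ⟶ U),
      Etale g ∧ v ∈ Set.range g ∧ (∀ b, IsIntegralHom (q b)) ∧ (∀ x, ∃ b, x ∈ Set.range (q b)) ∧
        ∀ b, R' (q b ≫ g ≫ π ≫ e ≫ z) := fun v => by
    obtain ⟨a, va, rfl⟩ := (sigmaOpenCover V₀).exists_eq v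
    obtain ⟨U, g, k, W, q, hg, ⟨x, rfl⟩, hq, hqs, hW⟩ := (h (hR a)).loc (V₀ a) (𝟙 _) va
    refine ⟨U, g ≫ Sigma.ι V₀ a, k, W, q, ?_, ⟨x, rfl⟩, hq, hqs, fun b => ?_⟩
    · haveI := hg
      infer_instance
    · have h1 := hW b
      simpa [π] using h1
  choose U g k₀ W q hg hgv hq hqs hW using hU
  haveI : ∀ v, Etale (g v) := hg
  haveI : IsIntegralHom π := hπ
  haveI : Surjective π := hπs
  obtain ⟨S₁, p, hp, ⟨s₁, rfl⟩, hsplit⟩ := Et18.exists_cover_lift π U g (fun v => ⟨v, hgv v⟩) s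
  obtain ⟨O₁, hO₁, hs₁, -⟩ := exists_isAffineOpen_mem_and_subset (X := S₁) (x := s₁) (U := ⊤) trivial
  haveI : IsAffine (O₁ : Scheme.{u}) := hO₁
  let p' : (O₁ : Scheme.{u}) ⟶ S₀ := O₁.ι ≫ p
  let sq := IsPullback.of_hasPullback π p
  obtain ⟨μ, D, hdisj, hsup, hD⟩ := hsplit _ _ sq
  let P := pullback π p'
  let c : P ⟶ pullback π p := pullback.map _ _ _ _ (𝟙 V) O₁.ι (𝟙 S₀) (by simp) (by simp [p'])
  haveI : IsAffineHom (pullback.snd π p') := inferInstance
  haveI : IsAffine P := isAffine_of_isAffineHom (pullback.snd π p')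
  haveI : CompactSpace P := inferInstance
  obtain ⟨t, ht⟩ := isCompact_univ.elim_finite_subcover (fun a => ((c ⁻¹ᵁ D a : P.Opens) : Set P))
    (fun a => (c ⁻¹ᵁ D a).isOpen) fun x _ => by
      have : c x ∈ ⨆ a, D a := hsup ▸ trivial
      obtain ⟨a, ha⟩ := Opens.mem_iSup.1 this
      exact Set.mem_iUnion.2 ⟨a, ha⟩
  let n := Fintype.card t
  let a : Fin n → μ := fun k => ((Fintype.equivFin t).symm k).1
  have ha : ∀ x : P, ∃ k, c x ∈ D (a k) := fun x => by
    obtain ⟨b, hb, hx⟩ := Set.mem_iUnion₂.1 (ht (Set.mem_univ x))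
    exact ⟨Fintype.equivFin t ⟨b, hb⟩, by simpa [a] using hx⟩
  have ha' : Function.Injective a := fun k l hkl =>
    (Fintype.equivFin t).symm.injective (Subtype.ext hkl)
  let E : Fin n → P.Opens := fun k => c ⁻¹ᵁ D (a k)
  have hE : ∀ k, IsClosed (E k : Set P) := fun k => by
    rw [← isOpen_compl_iff]
    have : (E k : Set P)ᶜ = ⋃ l ∈ {l | l ≠ k}, (E l : Set P) := by
      ext x
      refine ⟨fun hx => ?_, fun hx hk => ?_⟩
      · obtain ⟨l, hl⟩ := ha x
        exact Set.mem_iUnion₂.2 ⟨l, fun e => hx (e ▸ hl), hl⟩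
      · obtain ⟨l, hl, hxl⟩ := Set.mem_iUnion₂.1 hx
        exact Set.disjoint_left.1 (Opens.coe_disjoint.2 (hdisj _ _ fun e => hl (ha' e))) hxl hk
    rw [this]
    exact isOpen_biUnion fun l _ => (E l).isOpen
  choose i m hm using fun k => hD (a k)
  let cE : ∀ k, (E k : Scheme.{u}) ⟶ D (a k) := fun k => c.resLE _ _ le_rfl
  let ι' := Σ k : Fin n, Fin (k₀ (i k))
  let N := Fintype.card ι'
  let idx : Fin N → ι' := (Fintype.equivFin ι').symm
  let Q : ι' → Scheme.{u} := fun b => pullback (q (i b.1) b.2) (cE b.1 ≫ m b.1)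
  let rQ : ∀ b, Q b ⟶ P := fun b => pullback.snd (q (i b.1) b.2) (cE b.1 ≫ m b.1) ≫ (E b.1).ι
  refine ⟨O₁, p' ≫ e, N, fun j => Q (idx j), fun j => rQ (idx j) ≫ pullback.snd π p', ?_,
    ⟨⟨s₁, hs₁⟩, rfl⟩, fun j => ?_, fun x => ?_, fun j => ?_⟩
  · haveI := hp
    haveI := he
    infer_instance
  · haveI := hq (i (idx j).1) (idx j).2
    haveI := isIntegralHom_ι_of_isClosed _ (hE (idx j).1)
    infer_instance
  · obtain ⟨x, rfl⟩ := (pullback.snd π p').surjective x
    obtain ⟨k, hk⟩ := ha x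
    obtain ⟨b, w, hw⟩ := hqs (i k) ((cE k ≫ m k) ⟨x, hk⟩)
    obtain ⟨y, -, hy⟩ := Scheme.Pullback.exists_preimage_pullback (f := q (i k) b) (g := cE k ≫ m k) w (⟨x, hk⟩ : (E k : Scheme.{u})) hw
    have key : ∀ (β : ι') (y' : Q β), rQ β y' = x →
        pullback.snd π p' x ∈ Set.range (rQ β ≫ pullback.snd π p') := fun β y' h' => ⟨y', by
      rw [Scheme.Hom.comp_apply, h']⟩
    refine ⟨Fintype.equivFin ι' ⟨k, b⟩, ?_⟩
    have hs' : idx (Fintype.equivFin ι' ⟨k, b⟩) = ⟨k, b⟩ := Equiv.symm_apply_apply _ _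
    show pullback.snd π p' x ∈ Set.range (rQ (idx (Fintype.equivFin ι' ⟨k, b⟩)) ≫ pullback.snd π p')
    rw [hs']
    exact key ⟨k, b⟩ y ((congrArg (fun u => (E k).ι u) hy).trans rfl)
  · show R'.arrows ((rQ (idx j) ≫ pullback.snd π p') ≫ (p' ≫ e) ≫ z)
    generalize idx j = β
    obtain ⟨k, b⟩ := β
    have hk : rQ ⟨k, b⟩ ≫ pullback.fst π p' = pullback.fst (q (i k) b) (cE k ≫ m k) ≫ q (i k) b ≫ g (i k) := by
      show (pullback.snd (q (i k) b) (cE k ≫ m k) ≫ (E k).ι) ≫ pullback.fst π p' = _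
      rw [reassoc_of% (pullback.condition (f := q (i k) b) (g := cE k ≫ m k)), hm]
      simp [cE, c]
    have h2 := R'.downward_closed (hW (i k) b) (pullback.fst (q (i k) b) (cE k ≫ m k))
    rw [show (rQ ⟨k, b⟩ ≫ pullback.snd π p') ≫ (p' ≫ e) ≫ z =
        (rQ ⟨k, b⟩ ≫ pullback.fst π p') ≫ π ≫ e ≫ z by simp [pullback.condition_assoc], hk]
    simpa using h2

/-- The topology. -/
def topology : GrothendieckTopology Scheme.{u} where
  sieves T := {R | Cov R}
  top_mem' T := ⟨fun Z z w => ⟨Z, 𝟙 Z, 1, fun _ => Z, fun _ => 𝟙 Z, inferInstance, ⟨w, rfl⟩,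
    fun _ => inferInstance, fun s => ⟨0, s, rfl⟩, fun _ => trivial⟩⟩
  pullback_stable' := fun {T T'} R f hR => ⟨fun Z z w => by
    obtain ⟨S', e, n, V, π, he, hw, hi, hs, hR⟩ := hR.loc Z (z ≫ f) w
    exact ⟨S', e, n, V, π, he, hw, hi, hs, fun a => show R ((π a ≫ e ≫ z) ≫ f) by
      simpa using hR a⟩⟩
  transitive' := fun {T} R hR R' h => Cov.trans hR h

/-- The precoverage. -/
def precoverage : Precoverage Scheme.{u} := topology.toPrecoverage

theorem mem_J_iff {S : Scheme.{u}} {T : Over S} {R : Sieve T} :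
    R ∈ QuotSh.J precoverage S T ↔ Cov (Sieve.overEquiv T R) := by
  rw [GrothendieckTopology.mem_over_iff]
  show _ ∈ precoverage.toGrothendieck T.left ↔ _
  refine ⟨fun h => GrothendieckTopology.toGrothendieck_toPrecoverage_le topology _ h, fun h => ?_⟩
  have h' : Sieve.generate (Sieve.overEquiv T R).arrows ∈ topology T.left := by
    rw [Sieve.generate_sieve]; exact h
  have h2 := Precoverage.generate_mem_toGrothendieck (J := precoverage)
    ((GrothendieckTopology.mem_toPrecoverage_iff _ _).2 h')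
  rwa [Sieve.generate_sieve] at h2

theorem cov_of_etale {T : Scheme.{u}} {ι : Type*} {R : Sieve T} {U : ι → Scheme.{u}} (g : ∀ i, U i ⟶ T)
    (hg : ∀ i, Etale (g i)) (hs : ∀ t, ∃ i, t ∈ Set.range (g i)) (hR : ∀ i, R (g i)) : Cov R := by
  refine ⟨fun Z z w => ?_⟩
  obtain ⟨i, u, hu⟩ := hs (z w)
  obtain ⟨y, hy, -⟩ := Scheme.Pullback.exists_preimage_pullback (f := z) (g := g i) w u hu.symm
  haveI := hg i
  refine ⟨pullback z (g i), pullback.fst z (g i), 1, fun _ => pullback z (g i), fun _ => 𝟙 _, inferInstance,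
    ⟨y, hy⟩, fun _ => inferInstance, fun s => ⟨0, s, rfl⟩, fun _ => ?_⟩
  rw [Category.id_comp, pullback.condition]
  exact R.downward_closed (hR i) _

theorem cov_of_integral {T T' : Scheme.{u}} {R : Sieve T} (π : T' ⟶ T) [IsIntegralHom π] [Surjective π]
    (hR : R π) : Cov R := by
  refine ⟨fun Z z w => ⟨Z, 𝟙 Z, 1, fun _ => pullback z π, fun _ => pullback.fst z π, inferInstance, ⟨w, rfl⟩,
    fun _ => inferInstance, fun s => ⟨0, (pullback.fst z π).surjective s⟩, fun _ => ?_⟩⟩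
  rw [Category.id_comp, pullback.condition]
  exact R.downward_closed hR _

theorem etale_le : Scheme.etalePrecoverage.{u} ≤ precoverage := by
  intro T R hR
  obtain ⟨ι, U, g, rfl⟩ := Presieve.exists_eq_ofArrows R
  obtain ⟨hs, hg⟩ := (Scheme.ofArrows_mem_precoverage_iff (@Etale)).1 hR
  rw [precoverage, GrothendieckTopology.mem_toPrecoverage_iff]
  exact cov_of_etale g hg hs fun i => Sieve.le_generate _ _ _ (Presieve.ofArrows.mk i)

theorem le_subm : topology.{u} ≤ SubmTop.topology := by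
  intro T R hR
  have hR : Cov R := hR
  refine ⟨fun Z z w => ?_, fun Z z O hO => ?_⟩
  · obtain ⟨S', e, n, V, π, he, ⟨s, rfl⟩, hi, hs, hR⟩ := hR.loc Z z w
    obtain ⟨a, v, rfl⟩ := hs s
    exact ⟨V a, π a ≫ e, by simpa using hR a, v, rfl⟩
  · rw [isOpen_iff_forall_mem_open]
    intro w hw
    obtain ⟨S', e, n, V, π, he, ⟨s, rfl⟩, hR, hi, hs⟩ := exists_single hR Z z w
    haveI := he
    haveI := hi
    haveI := hs
    have hqm : Topology.IsQuotientMap (Sigma.desc π) :=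
      (Sigma.desc π).isClosedMap.isQuotientMap (Sigma.desc π).continuous (Sigma.desc π).surjective
    have ho : IsOpen (e ⁻¹' O) := by
      rw [← hqm.isOpen_preimage]
      have he' : Sigma.desc π ⁻¹' (e ⁻¹' O) = ⋃ a, Sigma.ι V a '' ((π a ≫ e) ⁻¹' O) := by
        have hc : ∀ a v, e (Sigma.desc π (Sigma.ι V a v)) = (π a ≫ e) v := fun a v =>
          congrArg e (congrArg (fun k : V a ⟶ S' => k v) (Sigma.ι_desc π a))
        ext x
        refine ⟨fun h => ?_, fun h => ?_⟩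
        · obtain ⟨a, v, rfl⟩ := (sigmaOpenCover V).exists_eq x
          exact Set.mem_iUnion.2 ⟨a, v, (show (π a ≫ e) v ∈ O from hc a v ▸ h), rfl⟩
        · obtain ⟨a, v, hv, rfl⟩ := Set.mem_iUnion.1 h
          exact (show e _ ∈ O from (hc a v).symm ▸ hv)
      rw [he']
      exact isOpen_iUnion fun a => (Sigma.ι V a).isOpenEmbedding.isOpenMap _
        (hO _ _ (by simpa using hR a))
    exact ⟨e '' (e ⁻¹' O), Set.image_preimage_subset _ _, e.isOpenMap _ ho, s, hw, rfl⟩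

theorem over_le_subm (S : Scheme.{u}) : QuotSh.J precoverage S ≤ SubmTop.topology.over S := by
  intro T R hR
  rw [GrothendieckTopology.mem_over_iff]
  exact le_subm _ (mem_J_iff.1 hR)

end Groth.Agent.Desc19b.IntTop
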