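import Groth.Agent.Desc19b.IntTop.Topology
import Groth.Agent.S2570

/-!
# Universally open surjections of locally Noetherian schemes cover for the étale-integral topology
-/

set_option autoImplicit false
set_option backward.isDefEq.respectTransparency.types false
set_option backward.isDefEq.respectTransparency false
set_option linter.all false

universe u

open CategoryTheory CategoryTheory.Limits AlgebraicGeometry

namespace Groth.Agent.Desc19b.IntTop

theorem cov_of_universallyOpen {X Y : Scheme.{u}} [IsLocallyNoetherian Y] (f : X ⟶ Y)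
    [UniversallyOpen f] [LocallyOfFiniteType f] [Surjective f] :
    Cov (Sieve.generate (Presieve.singleton f)) := by
  let S₀ : Sieve Y := Sieve.ofArrows (fun U : {U : Y.Opens // IsAffineOpen U} => (U.1 : Scheme.{u})) (fun U => U.1.ι)
  refine topology.transitive (S := S₀) ?_ _ ?_
  · refine cov_of_etale (fun U : {U : Y.Opens // IsAffineOpen U} => U.1.ι) (fun U => inferInstance) (fun y => ?_)
      (fun U => Sieve.ofArrows_mk _ _ U)
    obtain ⟨U, hU, hy, -⟩ := exists_isAffineOpen_mem_and_subset (X := Y) (x := y) (U := ⊤) trivial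
    exact ⟨⟨U, hU⟩, ⟨y, hy⟩, rfl⟩
  · intro P k₀ hk
    obtain ⟨U, k, rfl⟩ : ∃ U : {U : Y.Opens // IsAffineOpen U}, ∃ k : P ⟶ (U.1 : Scheme.{u}), k ≫ U.1.ι = k₀ := by
      obtain ⟨U, k, rfl⟩ := (Sieve.mem_ofArrows_iff _ _ _).1 hk
      exact ⟨U, k, rfl⟩
    rw [Sieve.pullback_comp]
    refine topology.pullback_stable k ?_
    haveI : IsAffine (U.1 : Scheme.{u}) := U.2
    haveI : IsNoetherian (U.1 : Scheme.{u}) := { }
    haveI : UniversallyOpen (f ∣_ U.1) := IsZariskiLocalAtTarget.restrict ‹_› _
    haveI : Surjective (f ∣_ U.1) := IsZariskiLocalAtTarget.restrict ‹_› _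
    obtain ⟨Y', g, hg, hgs, hsec⟩ := Groth.Agent.S2570.result (f ∣_ U.1)
    haveI := hg
    haveI := hgs
    refine topology.transitive (S := Sieve.generate (Presieve.singleton g))
      (cov_of_integral g (Sieve.le_generate _ _ _ (Presieve.singleton_self g))) _ ?_
    intro Q l hl
    obtain ⟨_, l', _, ⟨⟩, rfl⟩ := hl
    rw [Sieve.pullback_comp]
    refine topology.pullback_stable l' ?_
    choose O hO s hs using hsec
    refine cov_of_etale (fun y' => (O y').ι) (fun y' => inferInstance) (fun y' => ⟨y', ⟨y', hO y'⟩, rfl⟩) fun y' => ?_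
    refine ⟨X, s y' ≫ pullback.fst (f ∣_ U.1) g ≫ (f ⁻¹ᵁ U.1).ι, f, Presieve.singleton_self f, ?_⟩
    rw [Category.assoc, Category.assoc, ← morphismRestrict_ι, reassoc_of% pullback.condition,
      reassoc_of% hs y']
    exact (Category.assoc _ _ _).symm

end Groth.Agent.Desc19b.IntTop
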